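import Cfsg.Agent.Lib.Perm.Trans.UnitDecomp.Escape

/-!
# Frames of five lines over sixteen elements

All scalars have determinant one here.  A transvection with centre off the lines either fixes a frame vector, or its
product with a torus conjugate has a column with two zeros.
-/

set_option autoImplicit false
set_option linter.all false

namespace CfsgLib.Perm.Trans.Unit.Dec

open scoped Matrix
open Matrix Cfsg.Geo CfsgLib.Perm.Asch CfsgLib.Perm.Trans CfsgLib.Perm.Trans.Unit

/-- five values with vanishing sum among three dependent ones -/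
theorem five_choice : ∀ a b c d e : Fin 3,
    (![1, 0, 1] a + ![1, 0, 1] b + ![1, 0, 1] c + ![1, 0, 1] d + ![1, 0, 1] e : ℕ) % 2 = 0 →
    (![0, 1, 1] a + ![0, 1, 1] b + ![0, 1, 1] c + ![0, 1, 1] d + ![0, 1, 1] e : ℕ) % 2 = 0 →
    ∃ r, ![a, b, c, d, e] r = 1 ∧ ∃ r', ![a, b, c, d, e] r' = 2 ∧ ∃ s, ![a, b, c, d, e] s = 0 ∧
      ∃ i : Fin 5, i ≠ r ∧ i ≠ r' ∧ i ≠ s ∧ ∃ j, j ≠ r ∧ j ≠ r' ∧ j ≠ s ∧ j ≠ i ∧
        ![a, b, c, d, e] i = ![a, b, c, d, e] j := by
  decide

variable {ι : Type} [Fintype ι] [DecidableEq ι] {F : Type*} [Field F] [Fintype F]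
variable {σ : F ≃+* F} {f : (ι → F) → (ι → F) → F} (hf : IsUnitaryForm σ f)
include hf

/-- a choice of lines for five fixed non-zero elements with sum zero, over sixteen elements -/
theorem exists_five_split (h2 : (2 : F) = 0) (hS : Nat.card {x : F // σ x = x} = 4) {N : Fin 5 → F}
    (hfix : ∀ i, σ (N i) = N i) (h0 : ∀ i, N i ≠ 0) (hsum : ∑ i, N i = 0) :
    ∃ φ : Equiv.Perm (Fin 5), N (φ 0) + N (φ 1) = 1 ∧ N (φ 2) = 1 ∧ N (φ 3) = N (φ 4) := by
  classical
  obtain ⟨τ, hτ, hτ0, hτ1⟩ : ∃ τ : F, σ τ = τ ∧ τ ≠ 0 ∧ τ ≠ 1 := by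
    by_contra hcon
    push Not at hcon
    have : Nat.card {x : F // σ x = x} ≤ 2 := by
      rw [Nat.card_eq_fintype_card, ← Finset.card_univ]
      refine le_trans (Finset.card_le_card (t := {⟨0, map_zero σ⟩, ⟨1, map_one σ⟩}) fun r _ => ?_) Finset.card_le_two
      by_cases h : (r : F) = 0
      · simp [show r = ⟨0, map_zero σ⟩ from Subtype.ext h]
      · simp [show r = ⟨1, map_one σ⟩ from Subtype.ext (hcon r r.2 h)]
    omega
  have hτ1' : τ + 1 ≠ 0 := fun h => hτ1 (by linear_combination h - h2)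
  -- the fixed field
  let el : Fin 4 → {x : F // σ x = x} :=
    ![⟨0, map_zero σ⟩, ⟨1, map_one σ⟩, ⟨τ, hτ⟩, ⟨τ + 1, by rw [map_add, hτ, map_one]⟩]
  have hel : Function.Bijective el := by
    refine (Nat.bijective_iff_injective_and_card el).2 ⟨fun a b h => ?_, by rw [hS]; simp⟩
    have h' := congrArg Subtype.val h
    fin_cases a <;> fin_cases b <;> simp [el] at h' ⊢
    all_goals first
      | exact hτ0 h' | exact hτ0 h'.symm | exact hτ1 h' | exact hτ1 h'.symm | exact hτ1' h' | exact hτ1' h'.symm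
      | exact hτ0 (by linear_combination h') | exact hτ0 (by linear_combination -h')
      | exact hτ1' (by linear_combination h') | exact hτ1' (by linear_combination -h')
  let val : Fin 3 → F := ![1, τ, τ + 1]
  have hval : ∀ i, ∃ c, N i = val c := fun i => by
    obtain ⟨k, hk⟩ := hel.surjective ⟨N i, hfix i⟩
    have hk' := congrArg Subtype.val hk
    fin_cases k
    · exact absurd hk'.symm (h0 i)
    · exact ⟨0, hk'.symm⟩
    · exact ⟨1, hk'.symm⟩
    · exact ⟨2, hk'.symm⟩
  choose code hcode using hval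
  obtain ⟨A, hA⟩ : ∃ A : ℕ, A = ![1, 0, 1] (code 0) + ![1, 0, 1] (code 1) + ![1, 0, 1] (code 2) +
      ![1, 0, 1] (code 3) + ![1, 0, 1] (code 4) := ⟨_, rfl⟩
  obtain ⟨B, hB⟩ : ∃ B : ℕ, B = ![0, 1, 1] (code 0) + ![0, 1, 1] (code 1) + ![0, 1, 1] (code 2) +
      ![0, 1, 1] (code 3) + ![0, 1, 1] (code 4) := ⟨_, rfl⟩
  have hv : ∀ c, val c = ((![1, 0, 1] c : ℕ) : F) + ((![0, 1, 1] c : ℕ) : F) * τ := fun c => by
    fin_cases c <;> simp [val] <;> ring
  have hAB : (A : F) + (B : F) * τ = 0 := by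
    rw [← hsum, Fin.sum_univ_five, hcode, hcode, hcode, hcode, hcode, hv, hv, hv, hv, hv, hA, hB]
    push_cast
    ring
  have hmod : ∀ n : ℕ, (n : F) = ((n % 2 : ℕ) : F) := fun n => by
    conv_lhs => rw [← Nat.div_add_mod n 2]
    push_cast
    linear_combination ((n / 2 : ℕ) : F) * h2
  rw [hmod A, hmod B] at hAB
  have hpar : A % 2 = 0 ∧ B % 2 = 0 := by
    rcases Nat.mod_two_eq_zero_or_one A with ha | ha <;> rcases Nat.mod_two_eq_zero_or_one B with hb | hb <;>
      rw [ha, hb] at hAB <;> simp at hAB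
    · exact ⟨ha, hb⟩
    · exact absurd hAB hτ0
    · exact absurd (by linear_combination hAB) hτ1'
  obtain ⟨r, hr, r', hr', s, hs, i, hi1, hi2, hi3, j, hj1, hj2, hj3, hji, hij⟩ :=
    five_choice (code 0) (code 1) (code 2) (code 3) (code 4) (hA ▸ hpar.1) (hB ▸ hpar.2)
  have hc : ∀ k, ![code 0, code 1, code 2, code 3, code 4] k = code k := fun k => by fin_cases k <;> rfl
  rw [hc] at hr hr' hs
  rw [hc, hc] at hij
  have hrr : r ≠ r' := fun e => by rw [e, hr'] at hr; exact absurd hr (by decide)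
  have hrs : r ≠ s := fun e => by rw [e, hs] at hr; exact absurd hr (by decide)
  have hr's : r' ≠ s := fun e => by rw [e, hs] at hr'; exact absurd hr' (by decide)
  have hinj : Function.Injective ![r, r', s, i, j] := fun a b h => by
    fin_cases a <;> fin_cases b <;> first | rfl | (exfalso; simp [eq_comm] at h; first
      | exact hrr h | exact hrs h | exact hr's h | exact hi1 h | exact hi2 h | exact hi3 h
      | exact hj1 h | exact hj2 h | exact hj3 h | exact hji h | exact hrr h.symm | exact hrs h.symm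
      | exact hr's h.symm | exact hi1 h.symm | exact hi2 h.symm | exact hi3 h.symm
      | exact hj1 h.symm | exact hj2 h.symm | exact hj3 h.symm | exact hji h.symm)
  refine ⟨Equiv.ofBijective _ (Finite.injective_iff_bijective.1 hinj), ?_, ?_, ?_⟩ <;>
    simp only [Equiv.ofBijective_apply]
  · show N r + N r' = 1
    rw [hcode, hcode, hr, hr']
    show τ + (τ + 1) = 1
    linear_combination τ * h2
  · show N s = 1
    rw [hcode, hs]
    rfl
  · show N i = N j
    rw [hcode, hcode, hij]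

variable {D : Fin 5 → Submodule F (ι → F)} (hD : IsNondegenerateMDecomposition f 1 D)
variable {M : Subgroup (GL ι F)} (hM : M ≤ isoU f) (hH : decompositionStabilizer D ⊓ (isoU f ⊓ specialLinear ι F) ≤ M)
include hD hM hH

/-- five lines over sixteen elements: a line column -/
theorem lineCol_sixteen (hF : Fintype.card F = 4 ^ 2) (hS : Nat.card {x : F // σ x = x} = 4)
    (hcirc : Nat.card (circ σ) = 5) {g : GL ι F} (hg : g ∈ M) (hgs : g ∉ decompositionStabilizer D) :
    HasLineCol hf hD M := by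
  classical
  have h4 : 4 < Fintype.card F := by rw [hF]; norm_num
  have h2 : (2 : F) = 0 := by
    have hc : ringChar F = 2 := FiniteField.even_card_iff_char_two.2 (by rw [hF]; norm_num)
    haveI := ringChar.charP F
    have := CharP.cast_eq_zero F (ringChar F)
    rw [hc] at this
    exact_mod_cast this
  have hneg : (1 : F) = -1 := by linear_combination h2
  have hσ1 : σ (1 : F) = -1 := by rw [map_one]; exact hneg
  obtain ⟨a, b, hab, u, hu, hwide⟩ := exists_wide hf hD (by omega) (hM hg) hgs (Or.inl (by omega))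
  obtain ⟨d, hd⟩ : ∃ d, d = bv hf hD a + (u : F) • bv hf hD b := ⟨_, rfl⟩
  have hu' : (u : F) * σ u = 1 := hu
  have hdd : f d d = 0 := by
    rw [hd, hf.add_left, herm_add_right hf, herm_add_right hf, hf.smul_left, hf.smul_left, herm_smul_right hf,
      herm_smul_right hf, bv_norm hf hD, bv_norm hf hD, bv_orth hf hD hab, bv_orth hf hD hab.symm]
    linear_combination hu' + h2
  have htv : ∀ e (he : f e e = 0) x, (tv e ((1 : F) • hv hf e) (utv_orth hf he 1) : Matrix ι ι F) *ᵥ x =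
      x + f x e • e := fun e he x => by rw [tv_mulVec, smul_dotProduct, hv_dot, one_smul]
  have hTd : tv d ((1 : F) • hv hf d) (utv_orth hf hdd 1) ∈ M := by
    refine hH ⟨stab_of_cols hf hD fun m => ?_, mem_isoU.2 (utv_isometry hf d hdd hσ1 _), tv_mem_SL _ _ _⟩
    by_cases hma : m = a
    · subst hma
      refine ⟨b, ?_⟩
      rw [htv d hdd, hd, herm_add_right hf, herm_smul_right hf, bv_norm hf hD, bv_orth hf hD hab, mul_zero, add_zero,
        one_smul, ← add_assoc, show bv hf hD m + bv hf hD m = (2 : F) • bv hf hD m from (two_smul F _).symm, h2,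
        zero_smul, zero_add]
      exact (D b).smul_mem _ (bv_mem hf hD b)
    by_cases hmb : m = b
    · subst hmb
      refine ⟨a, ?_⟩
      rw [htv d hdd, hd, herm_add_right hf, herm_smul_right hf, bv_norm hf hD, bv_orth hf hD hab.symm, zero_add,
        mul_one, show bv hf hD m + σ (u : F) • (bv hf hD a + (u : F) • bv hf hD m) =
          σ (u : F) • bv hf hD a + (1 + (u : F) * σ (u : F)) • bv hf hD m by module, hu',
        show (1 : F) + 1 = 0 by linear_combination h2, zero_smul, add_zero]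
      exact (D a).smul_mem _ (bv_mem hf hD a)
    refine ⟨m, ?_⟩
    rw [htv d hdd, hd, herm_add_right hf, herm_smul_right hf, bv_orth hf hD hma, bv_orth hf hD hmb, mul_zero,
      add_zero, zero_smul, add_zero]
    exact bv_mem hf hD m
  obtain ⟨e, he⟩ : ∃ e, e = (g : Matrix ι ι F) *ᵥ d := ⟨_, rfl⟩
  have hee : f e e = 0 := by rw [he, mem_isoU.1 (hM hg), hdd]
  have hTe : tv e ((1 : F) • hv hf e) (utv_orth hf hee 1) ∈ M := by
    have h1 := M.mul_mem (M.mul_mem hg hTd) (M.inv_mem hg)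
    rwa [show g * tv d ((1 : F) • hv hf d) (utv_orth hf hdd 1) * g⁻¹ = tv e ((1 : F) • hv hf e) (utv_orth hf hee 1) from
      gl_ext_vec fun x => by
        rw [gl_mul_mulVec, gl_mul_mulVec, htv d hdd, htv e hee, mulVec_add, mulVec_smul, gl_mulVec_inv, he,
          adjoint_col hf hD hM (M.inv_mem hg) x d, inv_inv] ] at h1
  rw [show (g : Matrix ι ι F) *ᵥ bv hf hD a + (u : F) • ((g : Matrix ι ι F) *ᵥ bv hf hD b) = e by
    rw [he, hd, mulVec_add, mulVec_smul]] at hwide
  by_cases hfull : ∃ r, f e (bv hf hD r) = 0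
  · obtain ⟨r, hr⟩ := hfull
    refine ⟨_, hTe, fun hst => ?_, r, r, ?_⟩
    · obtain ⟨i, hi⟩ := Finset.card_pos.1 (show 0 < (lsupp hf hD e).card by omega)
      obtain ⟨π, hπ⟩ := stab_maps hst
      obtain ⟨i₁, hi₁, hi₁'⟩ := Finset.exists_mem_notMem_of_card_lt_card (s := {i, π i}) (t := lsupp hf hD e)
        (lt_of_le_of_lt Finset.card_le_two (by omega))
      simp only [Finset.mem_insert, Finset.mem_singleton, not_or] at hi₁'
      have h := coord_zero_off hf hD (hπ i _ (bv_mem hf hD i)) hi₁'.2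
      rw [htv e hee, hf.add_left, hf.smul_left, bv_orth hf hD (Ne.symm hi₁'.1), zero_add, mul_eq_zero] at h
      rcases h with h | h
      · exact (mem_lsupp hf hD).1 hi (herm_swap_zero hf h)
      · exact (mem_lsupp hf hD).1 hi₁ h
    · rw [htv e hee, herm_swap_zero hf hr, zero_smul, add_zero]
      exact bv_mem hf hD r
  push Not at hfull
  obtain ⟨N, hN⟩ : ∃ N : Fin 5 → F, N = fun i => f e (bv hf hD i) * σ (f e (bv hf hD i)) := ⟨_, rfl⟩
  obtain ⟨φ, hφ₁, hφ₂, hφ₃⟩ := exists_five_split hf h2 hS (N := N)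
    (fun i => by rw [hN]; simp only [map_mul, hf.involutive]; ring)
    (fun i => by rw [hN]; exact mul_ne_zero (hfull i) (by simpa using hfull i))
    (by rw [hN, ← hee, form_line hf hD e e])
  obtain ⟨ξ, hξ, hξo⟩ := exists_circ_generator hf
  rw [hcirc] at hξo
  obtain ⟨μ, hμdef⟩ : ∃ μ, μ = (ξ ^ 2)⁻¹ := ⟨_, rfl⟩
  have hμ : μ ∈ circ σ := hμdef ▸ (circ σ).inv_mem ((circ σ).pow_mem hξ 2)
  have hμ1 : (μ : F) ≠ 1 := fun h => by
    have h1 : μ = 1 := Units.ext (by simpa using h)
    rw [hμdef, inv_eq_one] at h1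
    have := Nat.le_of_dvd (by norm_num) (orderOf_dvd_of_pow_eq_one h1)
    omega
  obtain ⟨E, hE⟩ : ∃ E : Fin 5 → Fˣ, E = fun i => ![1, 1, μ, ξ, ξ] (φ.symm i) := ⟨_, rfl⟩
  have hEφ : ∀ k, E (φ k) = ![1, 1, μ, ξ, ξ] k := fun k => by rw [hE]; simp
  have hEc : ∀ i, E i ∈ circ σ := fun i => by
    obtain ⟨k, rfl⟩ := φ.surjective i
    rw [hEφ]
    fin_cases k <;> first | exact (circ σ).one_mem | exact hμ | exact hξ
  obtain ⟨w, hw, hwk, hwd, hwb, hwc⟩ := exists_tor hf hD E hEc
  have hwM : w ∈ M := mem_of_keeps hf hD hH hw hwk (by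
    rw [hwd, ← Units.coe_prod, ← Equiv.prod_comp φ, Finset.prod_congr rfl (fun k _ => hEφ k), Fin.prod_univ_five,
      ← Units.val_one]
    simp only [Matrix.cons_val_zero, Matrix.cons_val_one, Matrix.cons_val, Units.val_one]
    rw [show (1 : Fˣ) * 1 * μ * ξ * ξ = 1 by rw [hμdef, one_mul, one_mul, mul_assoc, ← pow_two, inv_mul_cancel],
      Units.val_one])
  obtain ⟨e', he'⟩ : ∃ e', e' = (w : Matrix ι ι F) *ᵥ e := ⟨_, rfl⟩
  have he'e' : f e' e' = 0 := by rw [he', mem_isoU.1 hw, hee]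
  have hTe' : tv e' ((1 : F) • hv hf e') (utv_orth hf he'e' 1) ∈ M := by
    have h1 := M.mul_mem (M.mul_mem hwM hTe) (M.inv_mem hwM)
    rwa [show w * tv e ((1 : F) • hv hf e) (utv_orth hf hee 1) * w⁻¹ =
      tv e' ((1 : F) • hv hf e') (utv_orth hf he'e' 1) from gl_ext_vec fun x => by
        rw [gl_mul_mulVec, gl_mul_mulVec, htv e hee, htv e' he'e', mulVec_add, mulVec_smul, gl_mulVec_inv, he',
          adjoint_col hf hD hM (M.inv_mem hwM) x e, inv_inv] ] at h1
  obtain ⟨c, hc⟩ : ∃ c, c = f e e' := ⟨_, rfl⟩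
  have hcval : σ c = 1 + (μ : F) := by
    rw [hc, ← hf.herm, form_line hf hD e' e, Finset.sum_congr rfl (g := fun i => N i * (E i : F))
      (fun i _ => by rw [he', hwc, hN]; ring), ← Equiv.sum_comp φ, Fin.sum_univ_five, hEφ, hEφ, hEφ, hEφ, hEφ]
    show N (φ 0) * ((1 : Fˣ) : F) + N (φ 1) * ((1 : Fˣ) : F) + N (φ 2) * (μ : F) + N (φ 3) * (ξ : F) +
      N (φ 4) * (ξ : F) = 1 + (μ : F)
    rw [Units.val_one, hφ₂, hφ₃]
    linear_combination hφ₁ + N (φ 4) * (ξ : F) * h2
  obtain ⟨y, hy⟩ : ∃ y, y = tv e' ((1 : F) • hv hf e') (utv_orth hf he'e' 1) *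
      tv e ((1 : F) • hv hf e) (utv_orth hf hee 1) := ⟨_, rfl⟩
  have hyM : y ∈ M := hy ▸ M.mul_mem hTe' hTe
  have hyx : ∀ x, (y : Matrix ι ι F) *ᵥ x = x + f x e • e + (f x e' + f x e * c) • e' := fun x => by
    rw [hy, gl_mul_mulVec, htv e hee, htv e' he'e', hf.add_left, hf.smul_left, hc]
  have hcs : c = 1 + σ (μ : F) := by rw [← hf.involutive c, hcval, map_add, map_one]
  obtain ⟨r, hr⟩ : ∃ r, r = φ 0 := ⟨_, rfl⟩
  obtain ⟨r', hr'⟩ : ∃ r', r' = φ 1 := ⟨_, rfl⟩
  obtain ⟨s, hs⟩ : ∃ s, s = φ 2 := ⟨_, rfl⟩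
  have hEr : E r = 1 := by rw [hr, hEφ]; rfl
  have hEr' : E r' = 1 := by rw [hr', hEφ]; rfl
  have hEs : E s = μ := by rw [hs, hEφ]; rfl
  have hrr' : r ≠ r' := fun e => absurd (φ.injective (hr.symm.trans (e.trans hr'))) (by decide)
  have hrs : r ≠ s := fun e => absurd (φ.injective (hr.symm.trans (e.trans hs))) (by decide)
  have hr's : r' ≠ s := fun e => absurd (φ.injective (hr'.symm.trans (e.trans hs))) (by decide)
  have hzero : ∀ i, E i = 1 → i ≠ s → f ((y : Matrix ι ι F) *ᵥ bv hf hD s) (bv hf hD i) = 0 := by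
    intro i hi his
    rw [hyx, hf.add_left, hf.add_left, hf.smul_left, hf.smul_left, bv_orth hf hD his.symm, hf.herm (bv hf hD s) e',
      hf.herm (bv hf hD s) e, he', hwc, hwc, hEs, hi, Units.val_one, one_mul, map_mul, hcs]
    linear_combination (σ (f e (bv hf hD s)) * f e (bv hf hD i) * (1 + σ (μ : F))) * h2
  refine lineCol_of_two hf hD hM hH le_rfl h4 hyM (fun hys => ?_) hrr' (hzero r hEr hrs) (hzero r' hEr' hr's)
  have hind : e' ∉ Submodule.span F {e} := fun hm => by
    obtain ⟨k', hk⟩ := Submodule.mem_span_singleton.1 hm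
    have e1 := congrArg (fun v => f v (bv hf hD r)) hk
    have e2 := congrArg (fun v => f v (bv hf hD s)) hk
    simp only [hf.smul_left, he', hwc, hEr, hEs, Units.val_one] at e1 e2
    rw [mul_right_cancel₀ (hfull r) e1] at e2
    exact hμ1 (mul_right_cancel₀ (hfull s) e2).symm
  have he0 : e ≠ 0 := fun h => hfull r (by rw [h, herm_zero_left hf])
  obtain ⟨x, -, hxe, hxe'⟩ := exists_values hf (isNondegenerateOn_top hf) (Submodule.mem_top : e ∈ ⊤)
    (Submodule.mem_top : e' ∈ ⊤) he0 hind 1 (-c)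
  obtain ⟨S, hS', hSz⟩ := mono_support hf hD hys (U := Submodule.span F {e, e'}) (fun x => by
      rw [hyx, Submodule.mem_span_pair]
      exact ⟨_, _, by abel⟩) (by
      refine (finrank_span_le_card _).trans ?_
      rw [Set.toFinset_insert, Set.toFinset_singleton]
      exact Finset.card_le_two)
  obtain ⟨o, -, ho⟩ := Finset.exists_mem_notMem_of_card_lt_card (s := S) (t := (Finset.univ : Finset (Fin 5)))
    (by simp; omega)
  have h := hSz x o ho
  rw [hyx, hxe, hxe', one_mul, neg_add_cancel, zero_smul, add_zero, one_smul, add_sub_cancel_left] at h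
  exact hfull o h

end CfsgLib.Perm.Trans.Unit.Dec
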