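import Cfsg.Agent.Lib.Perm.Trans.UnitDecomp.Small

/-!
# Frames of five lines over four elements

A wide image of an isotropic vector on two lines is a centre on exactly four lines.
-/

set_option autoImplicit false
set_option linter.all false

namespace CfsgLib.Perm.Trans.Unit.Dec

open scoped Matrix
open Matrix Cfsg.Geo CfsgLib.Perm.Asch CfsgLib.Perm.Trans CfsgLib.Perm.Trans.Unit

variable {ι : Type} [Fintype ι] [DecidableEq ι] {F : Type*} [Field F] [Fintype F]
variable {σ : F ≃+* F} {f : (ι → F) → (ι → F) → F} (hf : IsUnitaryForm σ f)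
variable {D : Fin 5 → Submodule F (ι → F)} (hD : IsNondegenerateMDecomposition f 1 D)
variable (hsmall : Fintype.card F ≤ 4)
variable {M : Subgroup (GL ι F)} (hM : M ≤ isoU f) (hH : decompositionStabilizer D ⊓ (isoU f ⊓ specialLinear ι F) ≤ M)
include hf hD hsmall hM hH

/-- five lines over four elements: small isotropic vectors are centres -/
theorem centres_small_five {g : GL ι F} (hg : g ∈ M) (hgs : g ∉ decompositionStabilizer D)
    (s : Finset (Fin 5)) (hs : s.card ≤ 4) : ∀ u ∈ part hf hD s, f u u = 0 → u ∈ centres hf M := by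
  classical
  obtain ⟨h2, hfix, hnorm⟩ := small_field hf hsmall
  intro u hu huu
  have hsub : lsupp hf hD u ⊆ s := fun i hi => by_contra fun h =>
    (mem_lsupp hf hD).1 hi ((comp_eq_zero hf hD).1 (hu i h))
  have hle := (Finset.card_le_card hsub).trans hs
  obtain ⟨m, hm⟩ := even_supp hf hD hsmall huu
  rcases (by omega : m = 0 ∨ m = 1 ∨ m = 2) with rfl | rfl | rfl
  · rw [show u = 0 from ext_line hf hD fun i => ?_]
    · exact centres_zero hf M
    · rw [herm_zero_left hf]
      by_contra hi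
      have := Finset.card_pos.2 ⟨i, (mem_lsupp hf hD).2 hi⟩
      omega
  · obtain ⟨i, j, hij, he⟩ := Finset.card_eq_two.1 hm
    refine pair_full hf hD hM hH (Or.inl (by omega)) (fun a b hab => pairGood_small hf hD hsmall hH hab) hij u
      (fun l hl => ?_) huu
    rw [comp_eq_zero]
    by_contra h
    exact hl (he ▸ (mem_lsupp hf hD).2 h)
  obtain ⟨a, b, hab, w, hw, hwide⟩ := exists_wide hf hD (by omega) (hM hg) hgs (Or.inr fun l h => by
    have h' := form_card hf hD hsmall ((g : Matrix ι ι F) *ᵥ bv hf hD l)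
    rw [mem_isoU.1 (hM hg), bv_norm hf hD, h] at h'
    exact one_ne_zero (by rw [h']; exact_mod_cast h2))
  have hz := centres_conj hf hM hg (seed_centre hf hD hsmall hH hab (Units.ne_zero w))
  rw [mulVec_add, mulVec_smul] at hz
  obtain ⟨z, hzdef⟩ : ∃ z, z = (g : Matrix ι ι F) *ᵥ bv hf hD a +
    (w : F) • ((g : Matrix ι ι F) *ᵥ bv hf hD b) := ⟨_, rfl⟩
  rw [← hzdef] at hz hwide
  have hzc : (lsupp hf hD z).card = 4 := by
    obtain ⟨n, hn⟩ := even_supp hf hD hsmall hz.1
    have := Finset.card_le_univ (lsupp hf hD z)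
    rw [Fintype.card_fin] at this
    omega
  obtain ⟨e⟩ : Nonempty ({x // x ∈ lsupp hf hD z} ≃ {x // x ∈ lsupp hf hD u}) :=
    ⟨Finset.equivOfCardEq (by rw [hzc, hm])⟩
  obtain ⟨π, hπ⟩ : ∃ π : Equiv.Perm (Fin 5), ∀ i, π i ∈ lsupp hf hD u ↔ i ∈ lsupp hf hD z :=
    ⟨e.extendSubtype, fun i => by
      by_cases hi : i ∈ lsupp hf hD z
      · exact iff_of_true (e.extendSubtype_mem i hi) hi
      · exact iff_of_false (e.extendSubtype_not_mem i hi) hi⟩
  obtain ⟨p, hp, hpD⟩ := exists_perm hf hD hH π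
  obtain ⟨z', hz'⟩ : ∃ z', z' = (p : Matrix ι ι F) *ᵥ z := ⟨_, rfl⟩
  have hsupp : ∀ i, f z' (bv hf hD i) = 0 ↔ f u (bv hf hD i) = 0 := fun i => by
    obtain ⟨j, rfl⟩ := π.surjective i
    rw [← comp_eq_zero hf hD, hz', comp_maps hf hD hpD, gl_mulVec_eq_zero, comp_eq_zero, ← not_iff_not]
    rw [← ne_eq, ← ne_eq, ← mem_lsupp hf hD, ← mem_lsupp hf hD]
    exact (hπ j).symm
  have hex : ∀ i, ∃ E ∈ circ σ, f u (bv hf hD i) ≠ 0 → (E : Fˣ) * f z' (bv hf hD i) = f u (bv hf hD i) := fun i => by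
    by_cases hi : f u (bv hf hD i) = 0
    · exact ⟨1, (circ σ).one_mem, fun h => absurd hi h⟩
    have hz0 : f z' (bv hf hD i) ≠ 0 := fun h => hi ((hsupp i).1 h)
    obtain ⟨E, hE, hEv⟩ := exists_circ (σ := σ) (hnorm _ (div_ne_zero hi hz0))
    exact ⟨E, hE, fun _ => by rw [hEv, div_mul_cancel₀ _ hz0]⟩
  choose E hE hEv using hex
  obtain ⟨c, -, hc⟩ := Finset.exists_mem_notMem_of_card_lt_card (s := lsupp hf hD u)
    (t := (Finset.univ : Finset (Fin 5))) (by simp; omega)
  obtain ⟨r, hr, hrc⟩ := exists_tor_fix hf hD hsmall hM hH _ E hE hc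
  have h := centres_conj hf hM hr (centres_conj hf hM hp hz)
  rw [← hz'] at h
  convert h using 1
  refine ext_line hf hD fun i => ?_
  rw [hrc z' (fun j hj => by rw [mem_lsupp, not_not] at hj; exact (hsupp j).2 hj)]
  by_cases hi : f u (bv hf hD i) = 0
  · rw [hi, (hsupp i).2 hi, mul_zero]
  · exact (hEv i hi).symm

end CfsgLib.Perm.Trans.Unit.Dec
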