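import Cfsg.Agent.Lib.Perm.Trans.UnitFive.FrameZero
import Cfsg.Agent.Lib.Perm.Trans.UnitFive.FrameFour
import Cfsg.Agent.Lib.Perm.Trans.UnitFive.FrameTwo
import Cfsg.Agent.Lib.Perm.Trans.UnitDecomp.Max

/-!
# Stabilisers of frames of five lines are maximal
-/

set_option autoImplicit false
set_option linter.all false

namespace CfsgLib.Perm.Trans.Unit.Dec

open scoped Matrix
open Matrix Cfsg.Geo CfsgLib.Perm.Asch CfsgLib.Perm.Trans CfsgLib.Perm.Trans.Unit

variable {ι : Type} [Fintype ι] [DecidableEq ι] {F : Type*} [Field F] [Fintype F]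
variable {σ : F ≃+* F} {f : (ι → F) → (ι → F) → F} (hf : IsUnitaryForm σ f)
variable {D : Fin 5 → Submodule F (ι → F)} (hD : IsNondegenerateMDecomposition f 1 D)
include hf hD

/-- a group above the stabiliser of five lines has a line column -/
theorem lineCol_five {M : Subgroup (GL ι F)} (hM : M ≤ isoU f)
    (hH : decompositionStabilizer D ⊓ (isoU f ⊓ specialLinear ι F) ≤ M) (h4 : 4 < Fintype.card F) {g : GL ι F}
    (hg : g ∈ M) (hgs : g ∉ decompositionStabilizer D) : HasLineCol hf hD M := by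
  classical
  by_contra hno
  obtain ⟨q, hq, hF, hS, hcirc⟩ := exists_sizes hf
  have hq3 : 3 ≤ q := by nlinarith
  by_cases hq4 : q = 4
  · subst hq4
    exact hno (lineCol_sixteen hf hD hM hH hF hS hcirc hg hgs)
  obtain ⟨u, hu, huo⟩ := exists_circ_generator hf
  rw [hcirc] at huo
  have hu5 : (u : F) ^ 5 ≠ 1 := fun h => by
    have h1 : q + 1 ∣ 5 := huo ▸ orderOf_dvd_of_pow_eq_one (Units.ext (by simpa using h))
    rcases (Nat.dvd_prime Nat.prime_five).1 h1 with h2 | h2 <;> omega
  have hnz : AllEntries hf hD M := fun x hx hxs l p hp =>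
    hno (lineCol_of_zero_five hf hD hM hH le_rfl h4 hx hxs hp hu hu5)
  by_cases hbig : (u : F) ^ 10 = 1
  · have h1 : q + 1 ∣ 10 := huo ▸ orderOf_dvd_of_pow_eq_one (Units.ext (by simpa using hbig))
    have : q ≤ 9 := by have := Nat.le_of_dvd (by norm_num) h1; omega
    obtain rfl : q = 9 := by interval_cases q <;> first | omega | (norm_num at h1)
    exact false_nine hf hD hM hH rfl hg hgs hnz hS hF hu huo
  · obtain ⟨R, S, hR, hSi, hRx, hSx, hz, hX⟩ :=
      exists_refl_data hf hD hM hH (by norm_num) hg hgs hnz hu (0 : Fin 5) 0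
    refine false_of_refl_pair hf (bv_norm hf hD 0) (by rw [mem_isoU.1 (hM hg), bv_norm hf hD]) hz
      ((circ σ).inv_mem ((circ σ).pow_mem hu 5)) (fun h => hbig ?_) hR hSi hRx hSx hX
    rw [Units.val_inv_eq_inv_val, Units.val_pow_eq_pow_val, inv_pow, inv_eq_one, ← pow_mul] at h
    exact h

/-- stabilisers of five orthogonal lines are maximal -/
theorem decomposition_maximal_five :
    IsMaximalIn (isoU f ⊓ specialLinear ι F) (decompositionStabilizer D ⊓ (isoU f ⊓ specialLinear ι F)) := by
  have hn : Fintype.card ι = 5 := (card_lines hD hf).symm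
  refine isMaximalIn_of_centres hf (by omega) (not_le_stab hf hD (by omega)) fun M hHM hM hne => ?_
  have hMiso : M ≤ isoU f := hM.trans inf_le_left
  obtain ⟨g, hg, hgs⟩ := SetLike.not_le_iff_exists.1 hne
  refine all_centres hf hD hMiso hHM (by norm_num) (Or.inl (by norm_num)) ?_
    fun _ hsmall => centres_small_five hf hD hsmall hMiso hHM hg hgs
  rcases Nat.lt_or_ge 4 (Fintype.card F) with h4 | h4
  · obtain ⟨i, j, hij, hgood⟩ :=
      exists_pairGood_of_lineCol hf hD hMiso hHM (by norm_num) h4 (lineCol_five hf hD hMiso hHM h4 hg hgs)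
    exact pairGood_all hf hD hMiso hHM hij hgood
  · exact fun a b hab => pairGood_small hf hD h4 hHM hab

end CfsgLib.Perm.Trans.Unit.Dec
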