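import Cfsg.Agent.Lib.Perm.Trans.UnitSU
import Cfsg.Agent.Lib.Perm.Trans.UnitFive.Frame

/-!
# Stabilisers of frames of the special unitary group of degree five
-/

set_option autoImplicit false
set_option linter.all false

namespace CfsgLib.Perm.Trans.GeomSUFive

open Cfsg Cfsg.Geo
open scoped Matrix

variable {F : Type*} [Field F] [Fintype F] {q : ℕ}

/-- stabilisers of five orthogonal lines -/
theorem frame_maximal_su5 (hF : Fintype.card F = q ^ 2) {D : Fin 5 → Submodule F (Fin 5 → F)}
    (hD : IsNondegenerateMDecomposition (hermForm 5 F q) 1 D) :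
    IsMaximalIn (GU 5 F q ⊓ specialLinear (Fin 5) F)
      (decompositionStabilizer D ⊓ (GU 5 F q ⊓ specialLinear (Fin 5) F)) := by
  obtain ⟨C⟩ := CfsgLib.Perm.Trans.Unit.ctx_of_card hF
  exact CfsgLib.Perm.Trans.Unit.Dec.decomposition_maximal_five (CfsgLib.Perm.Trans.Unit.isUnitary_hermForm C (n := 5)) hD

end CfsgLib.Perm.Trans.GeomSUFive
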