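import Cfsg.Agent.Lib.Perm.Trans.UnitDecomp.SixSmall

/-!
# Frames of five lines: zero entries, and the field with 81 elements

A quasi-reflection at a column stabilises a frame only if the column lies on two lines.  Over 81 elements the
dihedral groups of two reflections leave three possible norms for the entries, too few for five columns.
-/

set_option autoImplicit false
set_option linter.all false

namespace CfsgLib.Perm.Trans.Unit.Dec

open scoped Matrix
open Matrix Cfsg.Geo CfsgLib.Perm.Asch CfsgLib.Perm.Trans CfsgLib.Perm.Trans.Unit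

variable {ι : Type} [Fintype ι] [DecidableEq ι] {F : Type*} [Field F] [Fintype F]
variable {σ : F ≃+* F} {f : (ι → F) → (ι → F) → F} (hf : IsUnitaryForm σ f)
include hf

/-- the Chebyshev sequence of a scalar -/
def chebF (τ : F) : ℕ → F
  | 0 => 0
  | 1 => 1
  | n + 2 => τ * chebF τ (n + 1) - chebF τ n

variable {t : ℕ} {D : Fin t → Submodule F (ι → F)} (hD : IsNondegenerateMDecomposition f 1 D)
include hD

/-- a quasi-reflection stabilising a frame has its vector on at most two lines -/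
theorem supp_refl_stab {y : GL ι F} {c : ι → F} {κ : F} (hκ : κ ≠ 0)
    (hy : y ∈ decompositionStabilizer D) (hyx : ∀ x, (y : Matrix ι ι F) *ᵥ x = x + (κ * f x c) • c) :
    (lsupp hf hD c).card ≤ 2 := by
  classical
  by_contra hcon
  push Not at hcon
  obtain ⟨π, hπ⟩ := stab_maps hy
  obtain ⟨a, ha⟩ := Finset.card_pos.1 (show 0 < (lsupp hf hD c).card by omega)
  obtain ⟨i, hi, hi'⟩ := Finset.exists_mem_notMem_of_card_lt_card (s := {a, π a}) (t := lsupp hf hD c)
    (lt_of_le_of_lt Finset.card_le_two hcon)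
  simp only [Finset.mem_insert, Finset.mem_singleton, not_or] at hi'
  have h := coord_zero_off hf hD (hπ a _ (bv_mem hf hD a)) hi'.2
  rw [hyx, hf.add_left, hf.smul_left, bv_orth hf hD (Ne.symm hi'.1), zero_add] at h
  refine mul_ne_zero (mul_ne_zero hκ fun h0 => (mem_lsupp hf hD).1 ha (herm_swap_zero hf h0))
    ((mem_lsupp hf hD).1 hi) h

variable {M : Subgroup (GL ι F)} (hM : M ≤ isoU f) (hH : decompositionStabilizer D ⊓ (isoU f ⊓ specialLinear ι F) ≤ M)
include hM hH

/-- a zero entry gives a line column, from five lines on -/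
theorem lineCol_of_zero_five (ht : 5 ≤ t) (h4 : 4 < Fintype.card F) {g : GL ι F} (hg : g ∈ M)
    (hgs : g ∉ decompositionStabilizer D) {l p : Fin t}
    (hp : f ((g : Matrix ι ι F) *ᵥ bv hf hD l) (bv hf hD p) = 0) {u : Fˣ} (hu : u ∈ circ σ)
    (hut : (u : F) ^ t ≠ 1) : HasLineCol hf hD M := by
  classical
  obtain ⟨c, hc⟩ : ∃ c, c = ((g⁻¹ : GL ι F) : Matrix ι ι F) *ᵥ bv hf hD p := ⟨_, rfl⟩
  have hfc : ∀ x, f ((g : Matrix ι ι F) *ᵥ x) (bv hf hD p) = f x c := fun x => by
    rw [hc, adjoint_col hf hD hM hg]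
  obtain ⟨v, hv⟩ : ∃ v, v = (u ^ t)⁻¹ := ⟨_, rfl⟩
  have hvc : v ∈ circ σ := hv ▸ (circ σ).inv_mem ((circ σ).pow_mem hu t)
  have hv1 : (v : F) ≠ 1 := fun h => hut (by
    have : v = 1 := Units.ext (by simpa using h)
    rw [hv, inv_eq_one] at this
    simpa using congrArg Units.val this)
  let e : Fin t → Fˣ := Function.update (fun _ => u) p (u * v)
  have he : ∀ i, e i ∈ circ σ := fun i => by
    simp only [e, Function.update_apply]
    split_ifs
    · exact (circ σ).mul_mem hu hvc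
    · exact hu
  obtain ⟨w, hw, hwk, hwd, hwb, hwc⟩ := exists_tor hf hD e he
  have hwM : w ∈ M := mem_of_keeps hf hD hH hw hwk (by
    rw [hwd, ← Units.coe_prod, Finset.prod_update_of_mem (Finset.mem_univ p), Finset.prod_const,
      Finset.card_sdiff, Finset.inter_univ, Finset.card_singleton, Finset.card_univ, Fintype.card_fin, hv,
      show u * (u ^ t)⁻¹ * u ^ (t - 1) = (u ^ t)⁻¹ * (u ^ (t - 1) * u) by ac_rfl, ← pow_succ,
      Nat.sub_add_cancel (by omega), inv_mul_cancel, Units.val_one])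
  have hwx : ∀ x, (w : Matrix ι ι F) *ᵥ x = (u : F) • (x + (((v : F) - 1) * f x (bv hf hD p)) • bv hf hD p) :=
    fun x => ext_line hf hD fun i => by
      rw [hwc, hf.smul_left, hf.add_left, hf.smul_left]
      rcases eq_or_ne i p with rfl | hi
      · simp only [e, Function.update_self, bv_norm hf hD, Units.val_mul]; ring
      · simp only [e, Function.update_of_ne hi, bv_orth hf hD hi.symm]; ring
  by_cases hns : g⁻¹ * w * g ∈ decompositionStabilizer D
  swap
  · refine ⟨_, M.mul_mem (M.mul_mem (M.inv_mem hg) hwM) hg, hns, l, l, ?_⟩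
    rw [gl_mul_mulVec, gl_mul_mulVec, hwx, hp, mul_zero, zero_smul, add_zero, mulVec_smul, gl_inv_mulVec]
    exact (D l).smul_mem _ (bv_mem hf hD l)
  obtain ⟨s, hs, hsk, -, -, hsc⟩ := exists_tor hf hD (fun _ => u⁻¹) (fun _ => (circ σ).inv_mem hu)
  obtain ⟨y, hy⟩ : ∃ y, y = s * (g⁻¹ * w * g) := ⟨_, rfl⟩
  have hyx : ∀ x, (y : Matrix ι ι F) *ᵥ x = x + (((v : F) - 1) * f x c) • c := fun x => by
    have hsx : ∀ x, (s : Matrix ι ι F) *ᵥ x = ((u⁻¹ : Fˣ) : F) • x := fun x =>
      ext_line hf hD fun i => by rw [hsc, hf.smul_left]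
    rw [hy, gl_mul_mulVec, gl_mul_mulVec, gl_mul_mulVec, hwx]
    simp only [mulVec_smul, mulVec_add, gl_inv_mulVec, hfc, ← hc]
    rw [hsx, hsx]
    simp only [smul_smul]
    match_scalars <;> field_simp [u.ne_zero] <;> simp [Units.val_inv_eq_inv_val]
  have hcard := supp_refl_stab hf hD (sub_ne_zero.2 hv1) (hy ▸ (decompositionStabilizer D).mul_mem (hsk.stab hD) hns) hyx
  obtain ⟨r, -, hr⟩ := Finset.exists_mem_notMem_of_card_lt_card (s := lsupp hf hD c)
    (t := (Finset.univ : Finset (Fin t))) (by simp; omega)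
  obtain ⟨r', -, hr'⟩ := Finset.exists_mem_notMem_of_card_lt_card (s := insert r (lsupp hf hD c))
    (t := (Finset.univ : Finset (Fin t))) (lt_of_le_of_lt (Finset.card_insert_le _ _) (by simp; omega))
  rw [Finset.mem_insert, not_or] at hr'
  rw [mem_lsupp, not_not] at hr
  have hr'' := hr'.2
  rw [mem_lsupp, not_not] at hr''
  exact lineCol_of_two hf hD hM hH ht h4 (M.inv_mem hg)
    (fun h' => hgs (inv_inv g ▸ (decompositionStabilizer D).inv_mem h')) (Ne.symm hr'.1) (hc ▸ hr) (hc ▸ hr'')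

omit hD hM hH in
/-- two reflections whose product has a power equal to minus one -/
theorem false_of_neg_pow (h2 : (2 : F) ≠ 0) {e z : ι → F} (hee : f e e = 1) (hzz : f z z = 1)
    (hz : z ∉ Submodule.span F {e}) {R S : GL ι F}
    (hRx : ∀ y, (R : Matrix ι ι F) *ᵥ y = y + (((-1 : F) - 1) * f y e) • e)
    (hSx : ∀ y, (S : Matrix ι ι F) *ᵥ y = y + (((-1 : F) - 1) * f y z) • z)
    (hX : ∀ x ∈ Subgroup.closure ({R, S} : Set (GL ι F)), ∀ c : F, (x : Matrix ι ι F) *ᵥ e = c • e →
      ∀ y, f y e = 0 → (x : Matrix ι ι F) *ᵥ y = y)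
    (τ : F) (hτ : τ = 4 * (f z e * f e z) - 2) (n : ℕ) (h0 : chebF τ (n + 1) = 0) (h1 : chebF τ n = 1) : False := by
  obtain ⟨k, hk⟩ : ∃ k, k = R * S := ⟨_, rfl⟩
  have hkX : k ∈ Subgroup.closure ({R, S} : Set (GL ι F)) :=
    hk ▸ mul_mem (Subgroup.subset_closure (Set.mem_insert _ _))
      (Subgroup.subset_closure (Set.mem_insert_of_mem _ rfl))
  have hke : (k : Matrix ι ι F) *ᵥ e = (4 * (f z e * f e z) - 1) • e + (-2 * f e z) • z := by
    rw [hk, gl_mul_mulVec, hSx, hRx, hf.add_left, hf.smul_left, hee]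
    match_scalars <;> ring
  have hkz : (k : Matrix ι ι F) *ᵥ z = (2 * f z e) • e + (-1 : F) • z := by
    rw [hk, gl_mul_mulVec, hSx, hRx, hf.add_left, hf.smul_left, hzz]
    match_scalars <;> ring
  have hsq : ∀ y, (y = e ∨ y = z) →
      (k : Matrix ι ι F) *ᵥ ((k : Matrix ι ι F) *ᵥ y) = τ • ((k : Matrix ι ι F) *ᵥ y) - y := by
    rintro y (rfl | rfl)
    · simp only [hke, hkz, mulVec_add, mulVec_smul, hτ]
      match_scalars <;> ring
    · simp only [hke, hkz, mulVec_add, mulVec_smul, hτ]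
      match_scalars <;> ring
  have hpow : ∀ y, (y = e ∨ y = z) → ∀ m : ℕ, ((k ^ (m + 1) : GL ι F) : Matrix ι ι F) *ᵥ y =
      chebF τ (m + 1) • ((k : Matrix ι ι F) *ᵥ y) - chebF τ m • y := by
    intro y hy m
    induction m with
    | zero => rw [pow_one]; simp [chebF]
    | succ m ih =>
      rw [pow_succ' k, gl_mul_mulVec, ih, mulVec_sub, mulVec_smul, mulVec_smul, hsq y hy,
        show chebF τ (m + 1 + 1) = τ * chebF τ (m + 1) - chebF τ m from rfl]
      module
  have hne : ∀ y, (y = e ∨ y = z) → ((k ^ (n + 1) : GL ι F) : Matrix ι ι F) *ᵥ y = -y := fun y hy => by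
    rw [hpow y hy, h0, h1, zero_smul, one_smul, zero_sub]
  obtain ⟨y, hy⟩ : ∃ y, y = z - f z e • e := ⟨_, rfl⟩
  have h3 := hX _ (pow_mem hkX (n + 1)) (-1) (by rw [hne e (Or.inl rfl), neg_one_smul]) y
    (by rw [hy, herm_sub_left hf, hf.smul_left, hee, mul_one, sub_self])
  rw [hy, mulVec_sub, mulVec_smul, hne e (Or.inl rfl), hne z (Or.inr rfl)] at h3
  have h4 : (2 : F) • (z - f z e • e) = 0 := by
    have := congrArg (fun w => (z - f z e • e) - w) h3
    simp only [sub_self] at this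
    rw [← this]
    module
  exact hz (Submodule.mem_span_singleton.2 ⟨f z e, (sub_eq_zero.1 ((smul_eq_zero.1 h4).resolve_left h2)).symm⟩)

omit hH hM hD in
/-- the fixed elements satisfy the equation of their field -/
theorem fixed_pow {q : ℕ} (hS : Nat.card {x : F // σ x = x} = q) {x : F} (hx : σ x = x) : x ^ q = x := by
  let K : Subfield F := (σ : F →+* F).eqLocusField (RingHom.id F)
  haveI : Fintype K := Fintype.ofFinite K
  have hK : Fintype.card K = q := by
    rw [← hS, ← Nat.card_eq_fintype_card]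
    exact Nat.card_congr (Equiv.subtypeEquivRight fun y => Iff.rfl)
  have h := FiniteField.pow_card (⟨x, hx⟩ : K)
  rw [hK] at h
  exact congrArg Subtype.val h

/-- five lines over 81 elements -/
theorem false_nine (ht : t = 5) {g : GL ι F} (hg : g ∈ M) (hgs : g ∉ decompositionStabilizer D)
    (hnz : AllEntries hf hD M) (hS : Nat.card {x : F // σ x = x} = 9) (hF : Fintype.card F = 9 ^ 2) {u : Fˣ}
    (hu : u ∈ circ σ) (huo : orderOf u = 10) : False := by
  classical
  obtain ⟨p, hchar⟩ := CharP.exists F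
  obtain ⟨n, hp, hn⟩ := FiniteField.card F p
  obtain rfl : p = 3 := by
    have h1 : p ∣ 3 ^ 4 := by
      rw [show (3 : ℕ) ^ 4 = Fintype.card F by rw [hF]; norm_num, hn]
      exact dvd_pow_self p n.pos.ne'
    exact (Nat.prime_dvd_prime_iff_eq hp Nat.prime_three).1 (hp.dvd_of_dvd_pow h1)
  have h3 : (3 : F) = 0 := by simpa using CharP.cast_eq_zero F 3
  have h2 : (2 : F) ≠ 0 := fun h => one_ne_zero (α := F) (by linear_combination h3 - h)
  have hne : ∀ i, 0 < i → i < 10 → (u : F) ^ i ≠ 1 := fun i h0 h1 h => by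
    have := Nat.le_of_dvd h0 (orderOf_dvd_of_pow_eq_one (x := u) (n := i) (Units.ext (by simpa using h)))
    omega
  have hu10 : (u : F) ^ 10 = 1 := by rw [← Units.val_pow_eq_pow_val, ← huo, pow_orderOf_eq_one, Units.val_one]
  have hu5 : (u : F) ^ 5 = -1 := by
    have : ((u : F) ^ 5 - 1) * ((u : F) ^ 5 + 1) = 0 := by linear_combination hu10
    exact eq_neg_of_add_eq_zero_left
      ((mul_eq_zero.1 this).resolve_left (sub_ne_zero.2 (hne 5 (by norm_num) (by norm_num))))
  obtain ⟨x₁, hx₁⟩ : ∃ x, x = (u : F) + σ u := ⟨_, rfl⟩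
  have hu' : (u : F) * σ u = 1 := hu
  have hux : (u : F) ^ 2 = x₁ * u - 1 := by linear_combination -(u : F) * hx₁ - hu'
  have hx : x₁ ^ 2 - x₁ - 1 = 0 := by
    have h0 : ((u : F) + 1) * ((u : F) ^ 4 - (u : F) ^ 3 + (u : F) ^ 2 - (u : F) + 1) = 0 := by
      linear_combination hu5
    have h1 : (u : F) + 1 ≠ 0 := fun h => hne 2 (by norm_num) (by norm_num) (by linear_combination ((u : F) - 1) * h)
    have h4 := (mul_eq_zero.1 h0).resolve_left h1
    have h5 : (u : F) ^ 2 * (x₁ ^ 2 - x₁ - 1) = 0 := by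
      linear_combination h4 - ((u : F) ^ 2 - (u : F) + 1 + (u : F) * x₁) * hux
    exact (mul_eq_zero.1 h5).resolve_left (pow_ne_zero 2 u.ne_zero)
  -- the possible norms
  let val : Fin 3 → F := ![1, x₁ + 1, 2 - x₁]
  obtain ⟨l, hl⟩ : ∃ l : Fin t, l = ⟨0, by omega⟩ := ⟨_, rfl⟩
  have hval : ∀ k, ∃ c, rnorm hf hD g l k = val c := by
    intro k
    obtain ⟨N, hN⟩ : ∃ N, N = rnorm hf hD g l k := ⟨_, rfl⟩
    rw [← hN]
    have hN0 : N ≠ 0 := hN ▸ rnorm_ne_zero hf hD hM hg hgs hnz l k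
    obtain ⟨R, S, hR, hS', hRx, hSx, hz, hX⟩ := exists_refl_data hf hD hM hH (by omega) hg hgs hnz hu l k
    have hv : (((u ^ t)⁻¹ : Fˣ) : F) = -1 := by
      rw [Units.val_inv_eq_inv_val, Units.val_pow_eq_pow_val, ht, hu5, inv_neg, inv_one]
    simp only [hv] at hRx hSx
    have hprod : f ((g : Matrix ι ι F) *ᵥ bv hf hD k) (bv hf hD l) *
        f (bv hf hD l) ((g : Matrix ι ι F) *ᵥ bv hf hD k) = N := by
      rw [hf.herm (bv hf hD l), hN]; rfl
    obtain ⟨τ, hτ⟩ : ∃ τ, τ = N + 1 := ⟨_, rfl⟩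
    have key : ∀ m : ℕ, chebF τ (m + 1) = 0 → chebF τ m = 1 → False := fun m h0 h1 =>
      false_of_neg_pow hf h2 (bv_norm hf hD l) (by rw [mem_isoU.1 (hM hg), bv_norm hf hD]) hz hRx hSx hX τ
        (by rw [hprod, hτ]; linear_combination (1 - N) * h3) m h0 h1
    have hN8 : (N ^ 4 - 1) * (N ^ 4 + 1) = 0 := by
      have h9 : N ^ 9 = N := fixed_pow hf hS (hN ▸ rnorm_fix hf hD g l k)
      have : N * ((N ^ 4 - 1) * (N ^ 4 + 1)) = 0 := by linear_combination h9
      exact (mul_eq_zero.1 this).resolve_left hN0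
    rcases mul_eq_zero.1 hN8 with h | h
    · have h' : (N - 1) * (N + 1) * (N ^ 2 + 1) = 0 := by linear_combination h
      rcases mul_eq_zero.1 h' with h | h
      · rcases mul_eq_zero.1 h with h | h
        · exact ⟨0, sub_eq_zero.1 h⟩
        · exact (key 1 (by simp [chebF, hτ, h]) (by simp [chebF])).elim
      · have h'' : (N - 1 - x₁) * (N - 2 + x₁) = 0 := by linear_combination h - hx - N * h3
        rcases mul_eq_zero.1 h'' with e | e
        · exact ⟨1, by simp only [val, Matrix.cons_val_one, Matrix.cons_val_zero]; linear_combination e⟩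
        · exact ⟨2, by simp [val]; linear_combination e⟩
    · exfalso
      have h' : (N ^ 2 - N - 1) * (N ^ 2 + N - 1) = 0 := by linear_combination h - N ^ 2 * h3
      rcases mul_eq_zero.1 h' with h | h
      · have e : τ ^ 2 = -1 := by rw [hτ]; linear_combination h + (N + 1) * h3
        refine key 3 ?_ ?_ <;> simp only [chebF]
        · linear_combination τ * e - τ * h3
        · linear_combination e - h3
      · have e : τ ^ 2 = τ + 1 := by rw [hτ]; linear_combination h
        refine key 4 ?_ ?_ <;> simp only [chebF]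
        · linear_combination (τ ^ 2 + τ - 1) * e + 0 * h3
        · linear_combination (τ + 1) * e + 0 * h3
  choose code hcode using hval
  obtain ⟨i, j, hij, he⟩ := Fintype.exists_ne_map_eq_of_card_lt code (by simp; omega)
  have hN : rnorm hf hD g l i = rnorm hf hD g l j := by rw [hcode, hcode, he]
  have hpair : ∀ w ∈ circ σ, (w : F) ≠ 1 → 1 + ((w : F) + σ (w : F) - 2) * rnorm hf hD g l i = 0 → False :=
    fun w hw hw1 h => false_of_pair hf hD hM hH (by omega) hg hgs hnz hij hN (u := w) hw hw1 h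
  have hi := hcode i
  obtain ⟨c, hc⟩ : ∃ c, c = code i := ⟨_, rfl⟩
  rw [← hc] at hi
  have hσ3 : (u : F) ^ 3 + σ ((u : F) ^ 3) = 1 - x₁ := by
    rw [map_pow]
    have e : (u : F) ^ 3 + σ (u : F) ^ 3 = x₁ ^ 3 - 3 * x₁ := by
      rw [hx₁]; linear_combination -3 * ((u : F) + σ u) * hu'
    linear_combination e + (x₁ + 1) * hx + x₁ * h3 - x₁ * h3
  fin_cases c
  · refine hpair _ ((circ σ).pow_mem hu 5) ?_ ?_
    · rw [Units.val_pow_eq_pow_val]; exact hne 5 (by norm_num) (by norm_num)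
    · rw [hi, Units.val_pow_eq_pow_val, hu5, map_neg, map_one]
      simp [val]
      linear_combination -h3
  · refine hpair u hu (by rw [← pow_one (u : F)]; exact hne 1 (by norm_num) (by norm_num)) ?_
    rw [hi, ← hx₁]
    simp [val]
    linear_combination hx
  · refine hpair _ ((circ σ).pow_mem hu 3) ?_ ?_
    · rw [Units.val_pow_eq_pow_val]; exact hne 3 (by norm_num) (by norm_num)
    · rw [hi, Units.val_pow_eq_pow_val, hσ3]
      simp [val]
      linear_combination hx

end CfsgLib.Perm.Trans.Unit.Dec
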