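import Cfsg.Agent.Lib.Perm.Trans.UnitFive.OrthLine

/-!
# Orthogonal subfield subgroups are maximal in five dimensional special unitary groups
-/

set_option autoImplicit false
set_option linter.all false

namespace CfsgLib.Perm.Trans.Unit.ORat

open scoped Matrix
open Matrix Cfsg.Geo CfsgLib.Perm.Asch CfsgLib.Perm.Trans
open CfsgLib.Perm.Trans.Subf (em_add em_neg em_sub em_smul em_zero em_injective em_ne_zero)

variable {ι : Type} [Fintype ι] [DecidableEq ι] {F : Type*} [Field F] [Fintype F]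
variable {σ : F ≃+* F} {f : (ι → F) → (ι → F) → F} {F₀ : Subfield F} {P : GL ι F} {θ : F}

local notation "em'" => CfsgLib.Perm.Trans.Subf.em

variable (D : OD σ f F₀ P θ) {M : Subgroup (GL ι F)}
include D

/-- a singular vector not orthogonal to `t` in the hyperplane of a singular vector -/
theorem exists_singular_pair_perp_five (h5 : Fintype.card ι = 5) {u t v : ι → F₀} (hv : rb D v u = 0)
    (htv : rb D t v ≠ 0) : ∃ w, rb D w u = 0 ∧ rb D w w = 0 ∧ rb D t w ≠ 0 := by
  haveI : Fintype F₀ := Fintype.ofFinite _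
  have hs := rb_symmetric D
  have h1 := Orth.finrank_le_inf_ker (⊤ : Submodule F₀ (ι → F₀)) (Orth.sfl hs u)
  rw [finrank_top, Module.finrank_fintype_fun_eq_card, top_inf_eq] at h1
  have h3 : Module.finrank F₀ (Submodule.span F₀ ({u} : Set (ι → F₀))) ≤ 1 :=
    (finrank_span_le_card _).trans (by simp)
  obtain ⟨z, hz, hzz, hzu⟩ := singular_avoid D (LinearMap.ker (Orth.sfl hs u)) (Submodule.span F₀ {u}) (by omega)
  obtain ⟨y, hy1, hy2⟩ := Orth.exists_pairing hs hzu
  obtain ⟨w, hw, hww, htw⟩ := Orth.exists_singular_pair' hs (two' D) (W := LinearMap.ker (Orth.sfl hs u))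
    (t := t) (v := v) (z := z) (y := y) hv hz
    (show rb D y u = 0 by rw [hs.symm]; exact hy2 u (Submodule.mem_span_singleton_self u))
    hzz (by rw [hy1]; exact one_ne_zero) htv
  exact ⟨w, hw, hww, htw⟩

variable (hM : M ≤ isoU f) (hHM : subfieldSubgroup F₀ P ⊓ (isoU f ⊓ specialLinear ι F) ≤ M)
variable (h5 : Fintype.card ι = 5)

section
variable (hno : ∀ v ∈ centres D.form M, v = 0)
include hM hHM hno h5

/-- without centres the overgroup is rational -/
theorem rational_of_five {g : GL ι F} (hg : g ∈ M) : g ∈ subfieldSubgroup F₀ P := by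
  classical
  haveI : Fintype F₀ := Fintype.ofFinite _
  have hs := rb_symmetric D
  obtain ⟨u, w, k, hu0, hu, hgu⟩ := exists_line_five D hM hHM hno h5 hg
  have hk0 : k ≠ 0 := fun h => em_ne_zero F₀ P hu0 (gl_mulVec_eq_zero.1 (by rw [hgu, h, zero_smul]))
  have hσk : σ k ≠ 0 := by simpa using hk0
  let L : (ι → F₀) →ₗ[F₀] (ι → F₀) :=
    { toFun := fun a => ip D (σ k • ((g : Matrix ι ι F) *ᵥ em' F₀ P a))
      map_add' := fun a b => by rw [em_add, mulVec_add, smul_add, map_add]
      map_smul' := fun c a => by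
        rw [em_smul, mulVec_smul, smul_comm]
        exact (ip D).map_smul c _ }
  obtain ⟨U, hU⟩ : ∃ U, U = LinearMap.ker (Orth.sfl hs u) := ⟨_, rfl⟩
  have hdimU := Orth.finrank_le_inf_ker (⊤ : Submodule F₀ (ι → F₀)) (Orth.sfl hs u)
  rw [finrank_top, Module.finrank_fintype_fun_eq_card, top_inf_eq, ← hU] at hdimU
  have hLU : ∀ a ∈ U, L a = 0 := fun a ha => by
    rw [hU] at ha
    exact case_line D hM hHM hno hg hu0 hu hgu (a := a) (by rw [hs.symm]; exact ha)
  have himage : ∀ a ∈ U, (g : Matrix ι ι F) *ᵥ em' F₀ P a =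
      (σ k)⁻¹ • em' F₀ P (rp D (σ k • ((g : Matrix ι ι F) *ᵥ em' F₀ P a))) := by
    intro a ha
    have h := decomp D (σ k • ((g : Matrix ι ι F) *ᵥ em' F₀ P a))
    rw [show ip D (σ k • ((g : Matrix ι ι F) *ᵥ em' F₀ P a)) = 0 from hLU a ha, em_zero, smul_zero, add_zero] at h
    rw [← h, inv_smul_smul₀ hσk]
  have hN : k * σ k ∈ F₀ := (D.fix _).2 (by rw [map_mul, D.form.involutive, mul_comm])
  have hzero : ∀ v, L v = 0 := by
    intro v
    have h4 := Orth.finrank_le_inf_ker U (Orth.sfl hs v)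
    obtain ⟨a, ⟨haU, hav⟩, haa, ha0⟩ := singular_avoid D (U ⊓ LinearMap.ker (Orth.sfl hs v)) ⊥
      (by rw [finrank_bot]; omega)
    have ha0' : a ≠ 0 := fun h => ha0 (h ▸ Submodule.zero_mem _)
    have h := case_line D hM hHM hno hg ha0' haa (himage a haU) hav
    obtain ⟨N, hNdef⟩ : ∃ N : F₀, (N : F) = k * σ k := ⟨⟨_, hN⟩, rfl⟩
    have hN0 : N ≠ 0 := fun h0 => mul_ne_zero hk0 hσk (by rw [← hNdef, h0]; rfl)
    have hsc : ∀ X : ι → F, k⁻¹ • X = N⁻¹ • (σ k • X) := fun X => by
      rw [Subfield.smul_def, smul_smul]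
      push_cast
      rw [hNdef, _root_.mul_inv_rev, mul_assoc, mul_comm k⁻¹, inv_mul_cancel_left₀ hσk]
    rw [map_inv₀, D.form.involutive, hsc, (ip D).map_smul] at h
    exact (smul_eq_zero.1 h).resolve_left (inv_ne_zero hN0)
  refine Subf.mem_subfieldSubgroup_of_image F₀ P (inv_ne_zero hσk) fun i =>
    ⟨rp D (σ k • ((g : Matrix ι ι F) *ᵥ em' F₀ P (Pi.single i 1))), ?_⟩
  have h := decomp D (σ k • ((g : Matrix ι ι F) *ᵥ em' F₀ P (Pi.single i 1)))
  rw [show ip D (σ k • ((g : Matrix ι ι F) *ᵥ em' F₀ P (Pi.single i 1))) = 0 from hzero _, em_zero, smul_zero,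
    add_zero] at h
  rw [← h, inv_smul_smul₀ hσk]

end

include hM hHM h5

/-- a nonzero centre gives every isotropic vector -/
theorem all_centres_five {v₀ : ι → F}
    (hv₀ : v₀ ∈ centres D.form M) (hv₀0 : v₀ ≠ 0) {v : ι → F} (hvv : f v v = 0) : v ∈ centres D.form M := by
  haveI : Fintype F₀ := Fintype.ofFinite _
  have hs := rb_symmetric D
  have h2 := two' D
  have hk1 : ∀ z, Fintype.card ι ≤ Module.finrank F₀ ↥(LinearMap.ker (Orth.sfl hs z)) + 1 := fun z => by
    have := Orth.finrank_le_inf_ker (⊤ : Submodule F₀ (ι → F₀)) (Orth.sfl hs z)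
    rwa [finrank_top, Module.finrank_fintype_fun_eq_card, top_inf_eq] at this
  -- a rational centre
  obtain ⟨u₁, hu₁0, hu₁, hu₁C⟩ : ∃ u, u ≠ 0 ∧ rb D u u = 0 ∧ em' F₀ P u ∈ centres D.form M := by
    obtain ⟨p, hp⟩ : ∃ p, p = rp D v₀ := ⟨_, rfl⟩
    obtain ⟨r, hr⟩ : ∃ r, r = ip D v₀ := ⟨_, rfl⟩
    have hvd : v₀ = em' F₀ P p + θ • em' F₀ P r := by rw [hp, hr]; exact decomp D v₀
    by_cases hind : ∀ c d : F₀, c • p + d • r = 0 → c = 0 ∧ d = 0
    swap
    · obtain ⟨k, w, hkw⟩ := line_of_dep D hind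
      rw [← hvd] at hkw
      have hk0 : k ≠ 0 := fun h => hv₀0 (by rw [hkw, h, zero_smul])
      have hw : em' F₀ P w ∈ centres D.form M := by
        have h := centres_smul D.form hv₀ k⁻¹
        rwa [hkw, inv_smul_smul₀ hk0] at h
      exact ⟨w, fun h => hv₀0 (by rw [hkw, h, em_zero, smul_zero]), (rb_isotropic D w).1 hw.1, hw⟩
    have h3 := finrank_perp2 D p r
    obtain ⟨u, hu, huu, hu0⟩ := singular_avoid D (perp2 D p r) ⊥ (by rw [finrank_bot]; omega)
    obtain ⟨hup, hur⟩ := (mem_perp2 D).1 hu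
    refine ⟨u, fun h => hu0 (h ▸ Submodule.zero_mem _), huu, spread D hM hHM hv₀ hvd huu hup hur fun h => ?_⟩
    obtain ⟨c, hc⟩ := Submodule.mem_span_singleton.1 h.1
    obtain ⟨d, hd⟩ := Submodule.mem_span_singleton.1 h.2
    rcases eq_or_ne d 0 with hd0 | hd0
    · exact one_ne_zero (hind 0 1 (by rw [← hd, hd0, zero_smul, zero_smul, smul_zero, add_zero])).2
    · exact hd0 (hind d (-c) (by rw [← hc, ← hd, neg_smul, smul_smul, smul_smul, mul_comm c d, add_neg_cancel])).1
  -- all rational singular vectors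
  have stepN : ∀ {a b : ι → F₀}, em' F₀ P a ∈ centres D.form M → rb D a a = 0 → rb D b b = 0 → rb D a b ≠ 0 →
      em' F₀ P b ∈ centres D.form M := by
    intro a b ha haa hbb hab
    have h3 := finrank_perp2 D a b
    obtain ⟨e, he, hee⟩ := Orth.exists_aniso hs h2 (W := perp2 D a b) (by omega)
    obtain ⟨hea, heb⟩ := (mem_perp2 D).1 he
    have hdd : rb D (a - b) (a - b) = -(2 * rb D a b) := by
      simp only [Orth.sym_sub_left hs, Orth.sym_sub_right hs, haa, hbb, hs.symm b a]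
      ring
    obtain ⟨h, hh, hhx⟩ := exists_two_refl D hHM (d1 := a - b) (d2 := e) (M := M)
      (by rw [hdd]; exact neg_ne_zero.2 (mul_ne_zero h2 hab)) hee
    have e1 : rf D (a - b) (rf D e a) = b := by
      rw [rf_fix D ((hs.symm _ _).trans hea), rf, hdd, Orth.sym_sub_right hs, haa,
        show 2 * (0 - rb D a b) / (-(2 * rb D a b)) = 1 by field_simp; ring, one_smul, sub_sub_cancel]
    have := centres_conj D.form hM hh ha
    rwa [hhx, e1] at this
  have hratC : ∀ u, rb D u u = 0 → em' F₀ P u ∈ centres D.form M := by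
    intro u hu
    by_cases h1 : rb D u₁ u = 0
    swap
    · exact stepN hu₁C hu₁ hu h1
    by_cases h3 : u₁ ∈ Submodule.span F₀ ({u} : Set (ι → F₀))
    · obtain ⟨c, hc⟩ := Submodule.mem_span_singleton.1 h3
      have hc0 : c ≠ 0 := fun h => hu₁0 (by rw [← hc, h, zero_smul])
      have h := centres_smul D.form hu₁C ((c : F)⁻¹)
      rwa [← hc, em_smul, inv_smul_smul₀ (fun h => hc0 (Subtype.ext h))] at h
    · exact spread D hM hHM hu₁C (r := 0) (by rw [em_zero, smul_zero, add_zero]) hu ((hs.symm _ _).trans h1)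
        (by rw [Orth.sym_zero_right hs]) fun h => h3 h.1
  -- the general vector
  have hB2 : ∀ {x y : ι → F₀}, rb D (x - y) (x - y) = rb D x x - 2 * rb D x y + rb D y y := fun {x y} => by
    rw [Orth.sym_sub_left hs, Orth.sym_sub_right hs, Orth.sym_sub_right hs, hs.symm y x]
    ring
  have hsing : ∀ {p r : ι → F₀}, rb D p p = 0 → rb D r r = 0 → em' F₀ P p + θ • em' F₀ P r ∈ centres D.form M := by
    intro p r hp hr
    have hiso : ∀ {p r : ι → F₀}, rb D p p = 0 → rb D r r = 0 →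
        f (em' F₀ P p + θ • em' F₀ P r) (em' F₀ P p + θ • em' F₀ P r) = 0 := fun {p r} hp hr => by
      rw [f_mixed D, hp, hr, hs.symm r p]
      push_cast
      ring
    have hyp : ∀ {p r : ι → F₀}, rb D p p = 0 → rb D r r = 0 → rb D p r ≠ 0 →
        em' F₀ P p + θ • em' F₀ P r ∈ centres D.form M := fun {p r} hp hr hpr =>
      centres_line D.form hM (hratC p hp) (hratC r hr)
        (fun h => hpr (Subtype.ext (by rw [rb_coe, h]; rfl))) (hiso hp hr)
    by_cases hpr : rb D p r = 0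
    swap
    · exact hyp hp hr hpr
    by_cases hdep : r ∈ Submodule.span F₀ ({p} : Set (ι → F₀))
    · obtain ⟨c, rfl⟩ := Submodule.mem_span_singleton.1 hdep
      rw [show em' F₀ P p + θ • em' F₀ P (c • p) = (1 + θ * c) • em' F₀ P p by rw [em_smul, smul_smul, add_smul, one_smul]]
      exact centres_smul D.form (hratC p hp) _
    obtain ⟨y, hy1, hy2⟩ := Orth.exists_pairing hs hdep
    have h1 := hk1 p
    obtain ⟨x, hx, hxx, hxr⟩ := exists_singular_pair_perp_five D h5 (u := p) (t := r) (v := y)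
      (show rb D y p = 0 by rw [hs.symm]; exact hy2 p (Submodule.mem_span_singleton_self p))
      (by rw [hy1]; exact one_ne_zero)
    have hxp : rb D x p = 0 := hx
    have hp' : rb D (p - x) (p - x) = 0 := by rw [hB2, hp, hxx, hs.symm p x, hxp]; ring
    have hp'r : rb D (p - x) r ≠ 0 := by
      rw [Orth.sym_sub_left hs, hpr, zero_sub, neg_ne_zero, hs.symm]; exact hxr
    have hl := centres_line D.form hM (hyp hp' hr hp'r) (hratC x hxx) (r := 1) ?_ ?_
    · rwa [one_smul, em_sub, show em' F₀ P p - em' F₀ P x + θ • em' F₀ P r + em' F₀ P x =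
        em' F₀ P p + θ • em' F₀ P r by abel] at hl
    · intro h
      have e := f_mixed D (p - x) r x 0
      rw [em_zero, smul_zero, add_zero, h, Orth.sym_zero_right hs, Orth.sym_zero_right hs] at e
      obtain ⟨-, e2⟩ := coe_split_unique D (x := rb D (p - x) x) (y := rb D r x) (x' := 0) (y' := 0)
        (by push_cast at e ⊢; linear_combination -e)
      exact hxr e2
    · rw [one_smul, em_sub, show em' F₀ P p - em' F₀ P x + θ • em' F₀ P r + em' F₀ P x =
        em' F₀ P p + θ • em' F₀ P r by abel]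
      exact hiso hp hr
  obtain ⟨p, hp⟩ : ∃ p, p = rp D v := ⟨_, rfl⟩
  obtain ⟨r, hr⟩ : ∃ r, r = ip D v := ⟨_, rfl⟩
  have hvd : v = em' F₀ P p + θ • em' F₀ P r := by rw [hp, hr]; exact decomp D v
  obtain ⟨δ, hδ⟩ : ∃ δ : F₀, (δ : F) = θ * θ :=
    ⟨⟨θ * θ, (D.fix _).2 (by rw [map_mul, D.bar, neg_mul_neg])⟩, rfl⟩
  have hq : rb D p p = δ * rb D r r := by
    have h := hvv
    rw [hvd, f_mixed D, hs.symm r p] at h
    refine Subtype.ext ?_
    push_cast
    rw [hδ]
    linear_combination h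
  rw [hvd]
  by_cases hrr : rb D r r = 0
  · exact hsing (by rw [hq, hrr, mul_zero]) hrr
  have hδ0 : δ ≠ 0 := fun h => D.ne_zero (mul_self_eq_zero.1 (by rw [← hδ, h]; rfl))
  have hpp : rb D p p ≠ 0 := by rw [hq]; exact mul_ne_zero hδ0 hrr
  obtain ⟨x, hxx, hpx, hrx⟩ : ∃ x, rb D x x = 0 ∧ rb D p x ≠ 0 ∧ rb D r x ≠ 0 := by
    obtain ⟨a, -, haa, hpa⟩ := exists_singular_pair_perp_five D h5 (u := 0) (t := p) (v := p)
      (Orth.sym_zero_right hs p) hpp
    by_cases hra : rb D r a = 0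
    swap
    · exact ⟨a, haa, hpa, hra⟩
    have h1 := hk1 a
    obtain ⟨b, hb, hbb, hrb⟩ := exists_singular_pair_perp_five D h5 (u := a) (t := r) (v := r) hra hrr
    have hba : rb D b a = 0 := hb
    by_cases hpb : rb D p b = 0
    swap
    · exact ⟨b, hbb, hpb, hrb⟩
    refine ⟨a + b, ?_, by rwa [hs.bilinear.add_right, hpb, add_zero], by rwa [hs.bilinear.add_right, hra, zero_add]⟩
    rw [hs.bilinear.add_left, hs.bilinear.add_right, hs.bilinear.add_right, haa, hbb, hs.symm a b, hba]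
    ring
  obtain ⟨t1, ht1⟩ : ∃ t, t = δ * rb D r r / (2 * rb D p x) := ⟨_, rfl⟩
  obtain ⟨t2, ht2⟩ : ∃ t, t = rb D r r / (2 * rb D r x) := ⟨_, rfl⟩
  have hp' : rb D (p - t1 • x) (p - t1 • x) = 0 := by
    rw [hB2, hs.bilinear.smul_right, hs.bilinear.smul_left, hs.bilinear.smul_right, hxx, hq, ht1]
    field_simp
    ring
  have hr' : rb D (r - t2 • x) (r - t2 • x) = 0 := by
    rw [hB2, hs.bilinear.smul_right, hs.bilinear.smul_left, hs.bilinear.smul_right, hxx, ht2]
    field_simp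
    ring
  have e : em' F₀ P (p - t1 • x) + θ • em' F₀ P (r - t2 • x) + ((t1 : F) + θ * t2) • em' F₀ P x =
      em' F₀ P p + θ • em' F₀ P r := by
    rw [em_sub, em_sub, em_smul, em_smul]
    module
  have hl := centres_line D.form hM (hsing hp' hr') (hratC x hxx) (r := (t1 : F) + θ * t2) ?_ ?_
  · rwa [e] at hl
  · intro h
    have e' := f_mixed D (p - t1 • x) (r - t2 • x) x 0
    rw [em_zero, smul_zero, add_zero, h, Orth.sym_zero_right hs, Orth.sym_zero_right hs, Orth.sym_sub_left hs,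
      Orth.sym_sub_left hs, hs.bilinear.smul_left, hs.bilinear.smul_left, hxx] at e'
    obtain ⟨e1, -⟩ := coe_split_unique D (x := rb D p x) (y := rb D r x) (x' := 0) (y' := 0)
      (by push_cast at e' ⊢; linear_combination -e')
    exact hpx e1
  · rw [e, ← hvd]; exact hvv

omit hM hHM

/-- orthogonal subfield subgroups are maximal in five dimensional special unitary groups -/
theorem orth_subfield_maximal_five :
    IsMaximalIn (isoU f ⊓ specialLinear ι F) (subfieldSubgroup F₀ P ⊓ (isoU f ⊓ specialLinear ι F)) := by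
  classical
  refine isMaximalIn_of_centres D.form (by omega) (not_le_subfield D) fun M hHM hM hnot u hu => ?_
  obtain ⟨g, hg, hgn⟩ := SetLike.not_le_iff_exists.1 hnot
  have hMI : M ≤ isoU f := hM.trans inf_le_left
  obtain ⟨v₀, hv₀, hv₀0⟩ : ∃ v, v ∈ centres D.form M ∧ v ≠ 0 := by
    by_contra h
    push Not at h
    exact hgn (rational_of_five D hMI hHM h5 h hg)
  exact all_centres_five D hMI hHM h5 hv₀ hv₀0 hu

end CfsgLib.Perm.Trans.Unit.ORat
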