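import Cfsg.Agent.Lib.Perm.Trans.UnitSU
import Cfsg.Agent.Lib.Perm.Trans.UnitSubfSymp
import Cfsg.Agent.Lib.Perm.Trans.UnitFive.OrthMax

/-!
# Orthogonal subfield subgroups of the special unitary group of degree five
-/

set_option autoImplicit false
set_option linter.all false

namespace CfsgLib.Perm.Trans.GeomSUFive

open Cfsg Cfsg.Geo
open scoped Matrix

variable {F : Type*} [Field F] [Fintype F] {q : ℕ}

/-- orthogonal subfield groups -/
theorem orth_subfield_maximal_su5 (hF : Fintype.card F = q ^ 2) (hodd : Odd q) (F₀ : Subfield F)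
    (P : Matrix.GeneralLinearGroup (Fin 5) F) (hcard : Fintype.card F = Nat.card F₀ ^ 2)
    (hP : IsFormRationalStructure (hermForm 5 F q) F₀ 1 P) :
    IsMaximalIn (GU 5 F q ⊓ specialLinear (Fin 5) F) (subfieldSubgroup F₀ P ⊓ (GU 5 F q ⊓ specialLinear (Fin 5) F)) := by
  obtain ⟨C⟩ := CfsgLib.Perm.Trans.Unit.ctx_of_card hF
  have hU := CfsgLib.Perm.Trans.Unit.isUnitary_hermForm C (n := 5)
  have hq : Nat.card F₀ = q := Nat.pow_left_injective two_ne_zero (hcard.symm.trans hF)
  have hmem : ∀ x : F, x ∈ F₀ → C.bar x = x := fun x hx => by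
    letI : Fintype F₀ := Fintype.ofFinite F₀
    have h := FiniteField.pow_card (⟨x, hx⟩ : F₀)
    rw [← Nat.card_eq_fintype_card, hq] at h
    rw [C.bar_eq]
    exact congrArg Subtype.val h
  have hfix : ∀ x : F, x ∈ F₀ ↔ C.bar x = x := fun x => ⟨hmem x, fun hx => by
    by_contra hx0
    obtain ⟨y, hy⟩ := C.exists_not_fixed
    exact hy (CfsgLib.Perm.Trans.Subf.eq_univ_of_closed Nat.prime_two hcard (C := {z | C.bar z = z})
      (fun a ha b hb => by simp only [Set.mem_setOf_eq] at *; rw [map_add, ha, hb])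
      (fun a ha b hb => by simp only [Set.mem_setOf_eq] at *; rw [map_mul, ha, hb])
      (fun a => hmem _ a.2) (s := x) hx hx0 y)⟩
  obtain ⟨θ, hθ0, hθ⟩ := CfsgLib.Perm.Trans.exists_trace_zero hU
  have hq1 : ringChar F ≠ 2 := fun h => by
    have h1 := FiniteField.even_card_iff_char_two.1 h
    rw [hF, Nat.pow_mod, Nat.odd_iff.1 hodd] at h1
    norm_num at h1
  have D : CfsgLib.Perm.Trans.Unit.ORat.OD C.bar (Cfsg.hermForm 5 F q) F₀ P θ :=
    { form := hU
      fix := hfix
      rat := fun a b => by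
        have := hP _ _ (fun i => (a i).2) (fun i => (b i).2)
        rwa [one_mul] at this
      two := Ring.two_ne_zero hq1
      ne_zero := hθ0
      bar := hθ
      big := by simp }
  exact CfsgLib.Perm.Trans.Unit.ORat.orth_subfield_maximal_five D (Fintype.card_fin 5)

end CfsgLib.Perm.Trans.GeomSUFive
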