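import Cfsg.Agent.Lib.Perm.Trans.UnitFour.OrthBasic

/-!
# Five dimensional unitary spaces: an overgroup without transvections maps some rational singular line to one

If the two parts of the image of a rational singular vector span a totally singular plane, four independent images
lie in a space of dimension three.  Otherwise the images of the hyperplane of the vector are a common scalar times
rational vectors of the orthogonal space, modulo the image of the vector, and the reflection pairs of that space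
show that the last coefficient is rational.
-/

set_option autoImplicit false
set_option linter.all false

namespace CfsgLib.Perm.Trans.Unit.ORat

open scoped Matrix
open Matrix Cfsg.Geo CfsgLib.Perm.Asch CfsgLib.Perm.Trans
open CfsgLib.Perm.Trans.Subf (em_add em_neg em_sub em_smul em_zero em_injective em_ne_zero)

variable {ι : Type} [Fintype ι] [DecidableEq ι] {F : Type*} [Field F] [Fintype F]
variable {σ : F ≃+* F} {f : (ι → F) → (ι → F) → F} {F₀ : Subfield F} {P : GL ι F} {θ : F}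

local notation "em'" => CfsgLib.Perm.Trans.Subf.em

variable (D : OD σ f F₀ P θ) {M : Subgroup (GL ι F)}
include D

/-- the rational orthogonal space of a pair of vectors -/
def perp2 (p r : ι → F₀) : Submodule F₀ (ι → F₀) :=
  LinearMap.ker (Orth.sfl (rb_symmetric D) p) ⊓ LinearMap.ker (Orth.sfl (rb_symmetric D) r)

theorem mem_perp2 {p r z : ι → F₀} : z ∈ perp2 D p r ↔ rb D z p = 0 ∧ rb D z r = 0 := Iff.rfl

theorem finrank_perp2 (p r : ι → F₀) : Fintype.card ι ≤ Module.finrank F₀ (perp2 D p r) + 2 := by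
  have h1 := Orth.finrank_le_inf_ker (⊤ : Submodule F₀ (ι → F₀)) (Orth.sfl (rb_symmetric D) p)
  rw [finrank_top, Module.finrank_fintype_fun_eq_card, top_inf_eq] at h1
  have h2 := Orth.finrank_le_inf_ker (LinearMap.ker (Orth.sfl (rb_symmetric D) p)) (Orth.sfl (rb_symmetric D) r)
  show Fintype.card ι ≤ Module.finrank F₀ ↥(LinearMap.ker (Orth.sfl (rb_symmetric D) p) ⊓
    LinearMap.ker (Orth.sfl (rb_symmetric D) r)) + 2
  omega

theorem finrank_perp2_le {p r : ι → F₀} (hind : ∀ c d : F₀, c • p + d • r = 0 → c = 0 ∧ d = 0) :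
    Module.finrank F₀ (perp2 D p r) + 2 ≤ Fintype.card ι := by
  have hs := rb_symmetric D
  have h := finrank_add_le_of_orth D (W := Submodule.span F₀ (Set.range ![p, r])) (U := perp2 D p r) (by
    intro x hx y hy
    rw [Matrix.range_cons_cons_empty] at hx
    obtain ⟨c, d, rfl⟩ := Submodule.mem_span_pair.1 hx
    obtain ⟨h1, h2⟩ := (mem_perp2 D).1 hy
    rw [hs.bilinear.add_left, hs.bilinear.smul_left, hs.bilinear.smul_left, hs.symm p y, hs.symm r y, h1, h2,
      mul_zero, mul_zero, add_zero])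
  rw [finrank_pair D hind] at h
  omega

theorem perp2_nondeg {p r : ι → F₀} (hd : rb D p p * rb D r r - rb D p r * rb D p r ≠ 0) {z : ι → F₀}
    (hz : z ∈ perp2 D p r) (h : ∀ y ∈ perp2 D p r, rb D z y = 0) : z = 0 := by
  have hs := rb_symmetric D
  by_contra hz0
  obtain ⟨y, hy⟩ := (hs.nondegenerate z hz0).2
  obtain ⟨c1, c2, e1, e2⟩ := plane_proj D hd y
  obtain ⟨g1, g2⟩ := (mem_perp2 D).1 hz
  have h3 := h _ ((mem_perp2 D).2 ⟨e1, e2⟩)
  rw [Orth.sym_sub_right hs, Orth.sym_sub_right hs, hs.bilinear.smul_right, hs.bilinear.smul_right, g1, g2,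
    mul_zero, mul_zero, sub_zero, sub_zero] at h3
  exact hy h3

/-- anisotropic vectors have anisotropic partners in a nondegenerate space -/
theorem exists_aniso_partner {W : Submodule F₀ (ι → F₀)} (hW : ∀ z ∈ W, (∀ y ∈ W, rb D z y = 0) → z = 0)
    (hdim : 2 ≤ Module.finrank F₀ W) {d : ι → F₀} (hdW : d ∈ W) (hdd : rb D d d ≠ 0) :
    ∃ e ∈ W, rb D e d = 0 ∧ rb D e e ≠ 0 := by
  have hs := rb_symmetric D
  by_contra hcon
  push Not at hcon
  have h1 := Orth.finrank_le_inf_ker W (Orth.sfl hs d)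
  obtain ⟨x, ⟨hxW, hxd⟩, hx0⟩ := Submodule.exists_mem_ne_zero_of_ne_bot (p := W ⊓ LinearMap.ker (Orth.sfl hs d))
    (fun h => by rw [h, finrank_bot] at h1; omega)
  have hxd' : rb D x d = 0 := hxd
  refine hx0 (hW x hxW fun y hy => ?_)
  obtain ⟨y', hy'⟩ : ∃ y', y' = y - (rb D y d / rb D d d) • d := ⟨_, rfl⟩
  have hy'W : y' ∈ W := hy' ▸ W.sub_mem hy (W.smul_mem _ hdW)
  have hy'd : rb D y' d = 0 := by
    rw [hy', Orth.sym_sub_left hs, hs.bilinear.smul_left, div_mul_cancel₀ _ hdd, sub_self]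
  have h3 := hcon (x + y') (W.add_mem hxW hy'W) (by rw [hs.bilinear.add_left, hxd', hy'd, add_zero])
  rw [hs.bilinear.add_left, hs.bilinear.add_right, hs.bilinear.add_right, hcon x hxW hxd', hcon y' hy'W hy'd,
    hs.symm y' x] at h3
  have h4 : rb D x y' = 0 :=
    (mul_eq_zero.1 (show (2 : F₀) * rb D x y' = 0 by linear_combination h3)).resolve_left (two' D)
  rwa [hy', Orth.sym_sub_right hs, hs.bilinear.smul_right, hxd', mul_zero, sub_zero] at h4

/-- a plane of parts which is not totally singular determines the multiple -/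
theorem coef_of_perp {v1 v2 : ι → F₀} (hv : rb D v1 v1 = dl D * rb D v2 v2)
    (hne : ¬(rb D v2 v2 = 0 ∧ rb D v1 v2 = 0)) {α β : F}
    (h : f (α • em' F₀ P v1 + β • em' F₀ P v2) (em' F₀ P v1 + θ • em' F₀ P v2) = 0) : β = θ * α := by
  have hs := rb_symmetric D
  have hw : ((rb D v1 v2 : F₀) : F) - θ * (rb D v2 v2 : F₀) ≠ 0 := fun h => by
    obtain ⟨e1, e2⟩ := coe_split_unique D (x := rb D v1 v2) (y := -rb D v2 v2) (x' := 0) (y' := 0)
      (by push_cast; linear_combination h)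
    exact hne ⟨neg_eq_zero.1 e2, e1⟩
  rw [D.form.add_left, D.form.smul_left, D.form.smul_left, herm_add_right D.form, herm_add_right D.form,
    herm_smul_right D.form, herm_smul_right D.form, D.bar, ← rb_coe D, ← rb_coe D, ← rb_coe D, ← rb_coe D,
    hs.symm v2 v1, hv] at h
  push_cast [dl_coe] at h
  refine sub_eq_zero.1 ((mul_eq_zero.1 (show (β - θ * α) * (((rb D v1 v2 : F₀) : F) - θ * (rb D v2 v2 : F₀)) = 0 by
    linear_combination h)).resolve_right hw)

/-- a Heisenberg pair differing by an imaginary multiple of the centre -/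
theorem centre_of_shift {U X : ι → F} {e : F} (hA : HM F₀ f M U X) (hB : HM F₀ f M U (X + e • U))
    (he : σ e ≠ e) : U ∈ centres D.form M := by
  have hU := hA.1
  refine ⟨hU, fun c hc => ⟨utv_orth D.form hU c, ?_⟩⟩
  have hne : e - σ e ≠ 0 := sub_ne_zero.2 (Ne.symm he)
  have hl : c / (e - σ e) ∈ F₀ := (D.fix _).2 (by
    rw [map_div₀, map_sub, D.form.involutive, hc, ← neg_sub e (σ e), neg_div_neg_eq])
  have hlσ : σ (c / (e - σ e)) = c / (e - σ e) := (D.fix _).1 hl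
  obtain ⟨g₁, hg₁, h₁⟩ := hA.2.2 ⟨_, hl⟩
  obtain ⟨g₂, hg₂, h₂⟩ := hB.2.2 ⟨_, hl⟩
  have hUX := hA.2.1
  have hXU := herm_swap_zero D.form hUX
  have heq : tv U (c • hv D.form U) (utv_orth D.form hU c) = g₂ * g₁⁻¹ := by
    rw [eq_mul_inv_iff_mul_eq]
    refine gl_ext_vec fun x => ?_
    simp only [gl_mul_mulVec, tv_mulVec, smul_dotProduct, hv_dot, smul_eq_mul, h₁ _, h₂ _]
    simp only [D.form.add_left, herm_add_right D.form, herm_sub_left D.form, D.form.smul_left,
      herm_smul_right D.form, hU, hUX, hXU, hlσ, smul_add, smul_smul, map_mul]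
    match_scalars <;> field_simp <;> ring
  rw [heq]
  exact M.mul_mem hg₂ (M.inv_mem hg₁)

variable (hM : M ≤ isoU f) (hHM : subfieldSubgroup F₀ P ⊓ (isoU f ⊓ specialLinear ι F) ≤ M)
variable (hno : ∀ v ∈ centres D.form M, v = 0) (h5 : Fintype.card ι = 5)
include hM hHM hno h5

/-- some rational singular line goes to a rational line -/
theorem exists_line_five {g : GL ι F} (hg : g ∈ M) :
    ∃ (u w : ι → F₀) (k : F), u ≠ 0 ∧ rb D u u = 0 ∧ (g : Matrix ι ι F) *ᵥ em' F₀ P u = k • em' F₀ P w := by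
  classical
  haveI : Fintype F₀ := Fintype.ofFinite _
  have hs := rb_symmetric D
  have hi := mem_isoU.1 (hM hg)
  by_contra hcon
  push Not at hcon
  obtain ⟨u, hu0, hu⟩ := exists_singular D
  obtain ⟨v1, hv1⟩ : ∃ v, v = rp D ((g : Matrix ι ι F) *ᵥ em' F₀ P u) := ⟨_, rfl⟩
  obtain ⟨v2, hv2⟩ : ∃ v, v = ip D ((g : Matrix ι ι F) *ᵥ em' F₀ P u) := ⟨_, rfl⟩
  have hgu : (g : Matrix ι ι F) *ᵥ em' F₀ P u = em' F₀ P v1 + θ • em' F₀ P v2 := by rw [hv1, hv2]; exact decomp D _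
  by_cases hind : ∀ c d : F₀, c • v1 + d • v2 = 0 → c = 0 ∧ d = 0
  swap
  · obtain ⟨k, w, hkw⟩ := line_of_dep D hind
    exact hcon u w k hu0 hu (hgu.trans hkw)
  have hvv : rb D v1 v1 = dl D * rb D v2 v2 := f_iso_parts D (by rw [← hgu, hi, ← rb_coe D, hu]; rfl)
  obtain ⟨U, hU⟩ : ∃ U, U = LinearMap.ker (Orth.sfl hs u) := ⟨_, rfl⟩
  have hmemU : ∀ {a}, a ∈ U → rb D u a = 0 := fun {a} ha => by
    rw [hU] at ha; rw [hs.symm]; exact ha
  have hdimU := Orth.finrank_le_inf_ker (⊤ : Submodule F₀ (ι → F₀)) (Orth.sfl hs u)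
  rw [finrank_top, Module.finrank_fintype_fun_eq_card, top_inf_eq, ← hU] at hdimU
  have hdimR := finrank_perp2 D v1 v2
  have hdimR' := finrank_perp2_le D hind
  -- images of `U` cannot lie in a space of dimension three
  have small : ∀ (T : Submodule F (ι → F)), Module.finrank F T ≤ 3 →
      ¬ ∀ a ∈ U, (g : Matrix ι ι F) *ᵥ em' F₀ P a ∈ T := by
    intro T hT h
    let b := Module.finBasis F₀ U
    have hli : LinearIndependent F₀ fun i => (b i : ι → F₀) := b.linearIndependent.map' U.subtype U.ker_subtype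
    have hliF := em_indep D (g := g) hli
    have h1 := finrank_span_eq_card hliF
    rw [Fintype.card_fin] at h1
    have h3 := Submodule.finrank_mono (Submodule.span_le.2 (by rintro _ ⟨i, rfl⟩; exact h _ (b i).2) :
      Submodule.span F (Set.range fun i => (g : Matrix ι ι F) *ᵥ em' F₀ P (b i : ι → F₀)) ≤ T)
    omega
  by_cases hsing : rb D v2 v2 = 0 ∧ rb D v1 v2 = 0
  · -- a totally singular plane
    obtain ⟨h22, h12⟩ := hsing
    have h11 : rb D v1 v1 = 0 := by rw [hvv, h22, mul_zero]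
    obtain ⟨R, hR⟩ : ∃ R, R = perp2 D v1 v2 := ⟨_, rfl⟩
    let bR := Module.finBasis F₀ R
    obtain ⟨T, hT⟩ : ∃ T, T = Submodule.span F (Set.range fun i => em' F₀ P (bR i : ι → F₀)) := ⟨_, rfl⟩
    refine small T ?_ fun a ha => ?_
    · rw [hT]
      refine (finrank_range_le_card (R := F) fun i => em' F₀ P (bR i : ι → F₀)).trans ?_
      rw [Fintype.card_fin, hR]
      omega
    have hmemT : ∀ z ∈ R, em' F₀ P z ∈ T := by
      intro z hz
      have key : ∀ c : Fin (Module.finrank F₀ R) → F₀, em' F₀ P (∑ i, c i • (bR i : ι → F₀)) ∈ T := by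
        intro c
        induction (Finset.univ : Finset (Fin (Module.finrank F₀ R))) using Finset.induction_on with
        | empty => rw [Finset.sum_empty, em_zero]; exact T.zero_mem
        | insert i s hi ih =>
          rw [Finset.sum_insert hi, em_add, em_smul]
          exact T.add_mem (T.smul_mem _ (hT ▸ Submodule.subset_span ⟨i, rfl⟩)) ih
      have h := congrArg (fun x : R => (x : ι → F₀)) (bR.sum_repr ⟨z, hz⟩)
      simp only [Submodule.coe_sum, Submodule.coe_smul] at h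
      rw [← h]
      exact key _
    obtain ⟨a1, h1⟩ : ∃ a1, a1 = rp D ((g : Matrix ι ι F) *ᵥ em' F₀ P a) := ⟨_, rfl⟩
    obtain ⟨a2, h2⟩ : ∃ a2, a2 = ip D ((g : Matrix ι ι F) *ᵥ em' F₀ P a) := ⟨_, rfl⟩
    have hga : (g : Matrix ι ι F) *ᵥ em' F₀ P a = em' F₀ P a1 + θ • em' F₀ P a2 := by rw [h1, h2]; exact decomp D _
    have hdet := parts_det D hM hHM hno hg hu0 hu (hmemU ha) hgu hga (w := v1) (b := v2) h11 h12 h11
      ((hs.symm _ _).trans h12) h22 h12
    have hf0 : f ((g : Matrix ι ι F) *ᵥ em' F₀ P a) ((g : Matrix ι ι F) *ᵥ em' F₀ P u) = 0 := by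
      rw [hi, ← rb_coe D, hs.symm, hmemU ha]; rfl
    rw [hga, hgu, f_mixed D] at hf0
    obtain ⟨e1, e2⟩ := coe_split_unique D (x := rb D a1 v1 - dl D * rb D a2 v2) (y := rb D a2 v1 - rb D a1 v2)
      (x' := 0) (y' := 0) (by push_cast [dl_coe]; linear_combination hf0)
    rw [sub_eq_zero] at e1 e2
    rw [e1, e2] at hdet
    have hY : rb D a2 v2 = 0 := by
      by_contra hY
      refine dl_not_sq D (rb D a1 v2 / rb D a2 v2) ?_
      field_simp
      linear_combination hdet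
    rw [hY, mul_zero] at e1
    have hX : rb D a1 v2 = 0 := mul_self_eq_zero.1 (by rw [hY] at hdet; linear_combination -hdet)
    rw [hX] at e2
    rw [hga]
    exact T.add_mem (hmemT _ (hR ▸ (mem_perp2 D).2 ⟨e1, hX⟩))
      (T.smul_mem θ (hmemT _ (hR ▸ (mem_perp2 D).2 ⟨e2, hY⟩)))
  have hd := disc_of D hvv hsing
  obtain ⟨R, hR⟩ : ∃ R, R = perp2 D v1 v2 := ⟨_, rfl⟩
  have hmemR : ∀ {z}, z ∈ R ↔ rb D z v1 = 0 ∧ rb D z v2 = 0 := fun {z} => by rw [hR]; exact mem_perp2 D
  have hnd : ∀ z ∈ R, (∀ y ∈ R, rb D z y = 0) → z = 0 := by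
    subst hR; exact fun z hz h => perp2_nondeg D hd hz h
  rw [← hR] at hdimR hdimR'
  obtain ⟨W, hW⟩ : ∃ W, W = (g : Matrix ι ι F) *ᵥ em' F₀ P u := ⟨_, rfl⟩
  have hWW : f W W = 0 := by rw [hW, hi, ← rb_coe D, hu]; rfl
  have hW0 : W ≠ 0 := fun h => em_ne_zero F₀ P hu0 (gl_mulVec_eq_zero.1 (hW ▸ h))
  have hRW : ∀ {z}, z ∈ R → f (em' F₀ P z) W = 0 := fun {z} hz => by
    rw [hW, hgu]
    exact herm_swap_zero D.form (perp_parts D ((hs.symm _ _).trans (hmemR.1 hz).1)
      ((hs.symm _ _).trans (hmemR.1 hz).2))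
  -- each image is a scalar multiple of a rational vector, modulo the centre
  have pw : ∀ a ∈ U, ∃ (k c : F) (r : ι → F₀), r ∈ R ∧
      (g : Matrix ι ι F) *ᵥ em' F₀ P a = k • em' F₀ P r + c • W := by
    intro a ha
    obtain ⟨a1, h1⟩ : ∃ a1, a1 = rp D ((g : Matrix ι ι F) *ᵥ em' F₀ P a) := ⟨_, rfl⟩
    obtain ⟨a2, h2⟩ : ∃ a2, a2 = ip D ((g : Matrix ι ι F) *ᵥ em' F₀ P a) := ⟨_, rfl⟩
    have hga : (g : Matrix ι ι F) *ᵥ em' F₀ P a = em' F₀ P a1 + θ • em' F₀ P a2 := by rw [h1, h2]; exact decomp D _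
    have hdet := det_zero_of_nondeg D hnd (by omega) (a1 := a1) (a2 := a2) fun w hw hww b hb hwb =>
      parts_det D hM hHM hno hg hu0 hu (hmemU ha) hgu hga (hmemR.1 hw).1 (hmemR.1 hw).2 hww (hmemR.1 hb).1
        (hmemR.1 hb).2 hwb
    obtain ⟨c1, c2, p1, p2⟩ := plane_proj D hd a1
    obtain ⟨d1, d2, q1, q2⟩ := plane_proj D hd a2
    obtain ⟨r1, hr1⟩ : ∃ x, x = a1 - c1 • v1 - c2 • v2 := ⟨_, rfl⟩
    obtain ⟨r2, hr2⟩ : ∃ x, x = a2 - d1 • v1 - d2 • v2 := ⟨_, rfl⟩
    have hr1R : r1 ∈ R := hmemR.2 ⟨hr1 ▸ p1, hr1 ▸ p2⟩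
    have hr2R : r2 ∈ R := hmemR.2 ⟨hr2 ▸ q1, hr2 ▸ q2⟩
    have hval : ∀ z ∈ R, rb D r1 z = rb D a1 z ∧ rb D r2 z = rb D a2 z := fun z hz => by
      simp only [hr1, hr2, Orth.sym_sub_left hs, hs.bilinear.smul_left, hs.symm v1 z, hs.symm v2 z,
        (hmemR.1 hz).1, (hmemR.1 hz).2, mul_zero, sub_zero, and_self]
    obtain ⟨k, r, hr, hkr⟩ : ∃ (k : F) (r : ι → F₀), r ∈ R ∧
        em' F₀ P r1 + θ • em' F₀ P r2 = k • em' F₀ P r := by
      by_cases h20 : r2 = 0
      · exact ⟨1, r1, hr1R, by rw [h20, em_zero, smul_zero, add_zero, one_smul]⟩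
      obtain ⟨z, hz, hz0⟩ : ∃ z ∈ R, rb D r2 z ≠ 0 := by
        by_contra h
        push Not at h
        exact h20 (hnd r2 hr2R h)
      obtain ⟨t, ht⟩ : ∃ t, t = rb D r1 z / rb D r2 z := ⟨_, rfl⟩
      have h12' : r1 - t • r2 = 0 := by
        refine hnd _ (R.sub_mem hr1R (R.smul_mem _ hr2R)) fun y hy => ?_
        have h := hdet z hz y hy
        rw [← (hval z hz).1, ← (hval z hz).2, ← (hval y hy).1, ← (hval y hy).2] at h
        rw [Orth.sym_sub_left hs, hs.bilinear.smul_left, ht]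
        field_simp
        linear_combination -h
      exact ⟨(t : F) + θ, r2, hr2R, by rw [sub_eq_zero.1 h12', em_smul, add_smul]⟩
    obtain ⟨α, hα⟩ : ∃ α : F, α = (c1 : F) + θ * d1 := ⟨_, rfl⟩
    obtain ⟨β, hβ⟩ : ∃ β : F, β = (c2 : F) + θ * d2 := ⟨_, rfl⟩
    have hX : (g : Matrix ι ι F) *ᵥ em' F₀ P a = k • em' F₀ P r + (α • em' F₀ P v1 + β • em' F₀ P v2) := by
      rw [hga, ← hkr, hr1, hr2, hα, hβ, em_sub, em_sub, em_sub, em_sub, em_smul, em_smul, em_smul, em_smul]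
      module
    have hf0 : f ((g : Matrix ι ι F) *ᵥ em' F₀ P a) W = 0 := by
      rw [hW, hi, ← rb_coe D, hs.symm, hmemU ha]; rfl
    rw [hX, D.form.add_left, D.form.smul_left, hRW hr, mul_zero, zero_add, hW, hgu] at hf0
    refine ⟨k, α, r, hr, ?_⟩
    rw [hX, coef_of_perp D hvv hsing hf0, hW, hgu]
    module
  -- products of images
  have hff : ∀ {a a' : ι → F₀} {k k' c c' : F} {r r' : ι → F₀}, r ∈ R → r' ∈ R →
      (g : Matrix ι ι F) *ᵥ em' F₀ P a = k • em' F₀ P r + c • W →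
      (g : Matrix ι ι F) *ᵥ em' F₀ P a' = k' • em' F₀ P r' + c' • W →
      ((rb D a a' : F₀) : F) = k * σ k' * (rb D r r' : F₀) := by
    intro a a' k k' c c' r r' hr hr' e e'
    rw [rb_coe, ← hi, e, e']
    simp only [D.form.add_left, herm_add_right D.form, D.form.smul_left, herm_smul_right D.form, hWW, hRW hr,
      herm_swap_zero D.form (hRW hr'), ← rb_coe D]
    ring
  obtain ⟨a₀, ha₀, haa₀⟩ := Orth.exists_aniso hs (two' D) (W := U) (by omega)
  obtain ⟨k, c₀, r₀, hr₀, e₀⟩ := pw a₀ ha₀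
  have hN := hff hr₀ hr₀ e₀ e₀
  have hk0 : k ≠ 0 := fun h => haa₀ (Subtype.ext (by rw [hN, h, zero_mul, zero_mul]; rfl))
  have hkσ : σ k ≠ 0 := by simpa using hk0
  have hrr₀ : rb D r₀ r₀ ≠ 0 := fun h => haa₀ (Subtype.ext (by rw [hN, h]; simp))
  obtain ⟨N, hNd⟩ : ∃ N : F₀, (N : F) = k * σ k :=
    ⟨⟨_, (D.fix _).2 (by rw [map_mul, D.form.involutive, mul_comm])⟩, rfl⟩
  have hN0 : (N : F) ≠ 0 := by rw [hNd]; exact mul_ne_zero hk0 hkσ
  have step : ∀ {a : ι → F₀} {k' c : F} {r : ι → F₀}, r ∈ R →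
      (g : Matrix ι ι F) *ᵥ em' F₀ P a = k' • em' F₀ P r + c • W → rb D r r₀ ≠ 0 →
      ∃ r', r' ∈ R ∧ (g : Matrix ι ι F) *ᵥ em' F₀ P a = k • em' F₀ P r' + c • W := by
    intro a k' c r hr e hne
    have h := hff hr hr₀ e e₀
    have hne' : ((rb D r r₀ : F₀) : F) ≠ 0 := fun h' => hne (Subtype.ext h')
    refine ⟨(rb D a a₀ / (N * rb D r r₀)) • r, R.smul_mem _ hr, ?_⟩
    rw [e, em_smul, smul_smul]
    congr 2
    push_cast
    rw [h, hNd]
    field_simp
  have good : ∀ a ∈ U, ∃ (r : ι → F₀) (c : F), r ∈ R ∧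
      (g : Matrix ι ι F) *ᵥ em' F₀ P a = k • em' F₀ P r + c • W := by
    intro a ha
    obtain ⟨k', c, r, hr, e⟩ := pw a ha
    by_cases hne : rb D r r₀ = 0
    swap
    · obtain ⟨r', hr', e'⟩ := step hr e hne
      exact ⟨r', c, hr', e'⟩
    obtain ⟨k'', c'', r'', hr'', e''⟩ := pw (a + a₀) (U.add_mem ha ha₀)
    have h1 := hff hr'' hr₀ e'' e₀
    rw [show rb D (a + a₀) a₀ = rb D a a₀ + rb D a₀ a₀ from hs.bilinear.add_left _ _ _] at h1
    push_cast at h1
    rw [hff hr hr₀ e e₀, hne, hN, Subfield.coe_zero, mul_zero, zero_add] at h1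
    have hne'' : rb D r'' r₀ ≠ 0 := fun h => by
      rw [h, Subfield.coe_zero, mul_zero] at h1
      exact mul_ne_zero (mul_ne_zero hk0 hkσ) (fun h' => hrr₀ (Subtype.ext h')) h1
    obtain ⟨r', hr', e'⟩ := step hr'' e'' hne''
    refine ⟨r' - r₀, c'' - c₀, R.sub_mem hr' hr₀, ?_⟩
    rw [em_add, mulVec_add, e₀] at e'
    rw [eq_sub_of_add_eq e', em_sub]
    module
  -- every vector of `R` occurs
  obtain ⟨R', hR'⟩ : ∃ R' : Submodule F₀ (ι → F₀), ∀ r, r ∈ R' ↔
      r ∈ R ∧ ∃ a ∈ U, ∃ c : F, (g : Matrix ι ι F) *ᵥ em' F₀ P a = k • em' F₀ P r + c • W := by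
    refine ⟨{ carrier := {r | r ∈ R ∧ ∃ a ∈ U, ∃ c : F,
        (g : Matrix ι ι F) *ᵥ em' F₀ P a = k • em' F₀ P r + c • W }
              add_mem' := ?_, zero_mem' := ?_, smul_mem' := ?_ }, fun r => Iff.rfl⟩
    · rintro r r' ⟨hr, a, ha, c, e⟩ ⟨hr', a', ha', c', e'⟩
      refine ⟨R.add_mem hr hr', a + a', U.add_mem ha ha', c + c', ?_⟩
      rw [em_add, mulVec_add, e, e', em_add]
      module
    · exact ⟨R.zero_mem, 0, U.zero_mem, 0, by rw [em_zero, mulVec_zero, smul_zero, zero_smul, add_zero]⟩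
    · rintro t r ⟨hr, a, ha, c, e⟩
      refine ⟨R.smul_mem t hr, t • a, U.smul_mem t ha, (t : F) * c, ?_⟩
      rw [em_smul, mulVec_smul, e, em_smul]
      module
  have hsurj : R ≤ R' := by
    have hle : R' ≤ R := fun r hr => ((hR' r).1 hr).1
    let bR := Module.finBasis F₀ R'
    obtain ⟨T, hT⟩ : ∃ T, T = Submodule.span F (Set.range fun i => em' F₀ P (bR i : ι → F₀)) ⊔
        Submodule.span F ({W} : Set (ι → F)) := ⟨_, rfl⟩
    refine (Submodule.eq_of_le_of_finrank_le hle ?_).ge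
    by_contra hlt
    refine small T ?_ fun a ha => ?_
    · rw [hT]
      have h1 := finrank_range_le_card (R := F) fun i => em' F₀ P (bR i : ι → F₀)
      rw [Fintype.card_fin] at h1
      have h2 := Submodule.finrank_add_le_finrank_add_finrank
        (Submodule.span F (Set.range fun i => em' F₀ P (bR i : ι → F₀))) (Submodule.span F ({W} : Set (ι → F)))
      rw [finrank_span_singleton hW0] at h2
      change Module.finrank F (Submodule.span F (Set.range fun i => em' F₀ P (bR i : ι → F₀))) ≤ _ at h1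
      omega
    obtain ⟨r, c, hr, e⟩ := good a ha
    have hmem : r ∈ R' := (hR' r).2 ⟨hr, a, ha, c, e⟩
    rw [e, hT]
    refine Submodule.add_mem_sup (Submodule.smul_mem _ _ ?_) (Submodule.smul_mem _ _ (Submodule.mem_span_singleton_self W))
    have h := congrArg (fun x : R' => (x : ι → F₀)) (bR.sum_repr ⟨r, hmem⟩)
    simp only [Submodule.coe_sum, Submodule.coe_smul] at h
    rw [← h]
    induction (Finset.univ : Finset (Fin (Module.finrank F₀ R'))) using Finset.induction_on with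
    | empty => rw [Finset.sum_empty, em_zero]; exact Submodule.zero_mem _
    | insert i s hi ih =>
      rw [Finset.sum_insert hi, em_add, em_smul]
      exact Submodule.add_mem _ (Submodule.smul_mem _ _ (Submodule.subset_span ⟨i, rfl⟩)) ih
  -- the reflection pairs make the coefficient rational
  obtain ⟨R0, hR0⟩ : ∃ R0 : Submodule F₀ (ι → F₀), ∀ r, r ∈ R0 ↔
      r ∈ R ∧ ∃ a ∈ U, ∃ c : F, σ c = c ∧ (g : Matrix ι ι F) *ᵥ em' F₀ P a = k • em' F₀ P r + c • W := by
    refine ⟨{ carrier := {r | r ∈ R ∧ ∃ a ∈ U, ∃ c : F, σ c = c ∧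
        (g : Matrix ι ι F) *ᵥ em' F₀ P a = k • em' F₀ P r + c • W }
              add_mem' := ?_, zero_mem' := ?_, smul_mem' := ?_ }, fun r => Iff.rfl⟩
    · rintro r r' ⟨hr, a, ha, c, hc, e⟩ ⟨hr', a', ha', c', hc', e'⟩
      refine ⟨R.add_mem hr hr', a + a', U.add_mem ha ha', c + c', by rw [map_add, hc, hc'], ?_⟩
      rw [em_add, mulVec_add, e, e', em_add]
      module
    · exact ⟨R.zero_mem, 0, U.zero_mem, 0, map_zero σ, by rw [em_zero, mulVec_zero, smul_zero, zero_smul, add_zero]⟩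
    · rintro t r ⟨hr, a, ha, c, hc, e⟩
      refine ⟨R.smul_mem t hr, t • a, U.smul_mem t ha, (t : F) * c, by rw [map_mul, sfix D, hc], ?_⟩
      rw [em_smul, mulVec_smul, e, em_smul]
      module
  have haniso : ∀ d ∈ R, rb D d d ≠ 0 → d ∈ R0 := by
    intro d hd' hdd
    obtain ⟨e, heR, hed, hee⟩ := exists_aniso_partner D hnd (by omega) hd' hdd
    obtain ⟨ρ, hρ, hρx⟩ := exists_two_refl D hHM hdd hee (M := M)
    obtain ⟨-, a, ha, c, ea⟩ := (hR' d).1 (hsurj hd')
    obtain ⟨-, b, hb, c', eb⟩ := (hR' (-d)).1 (hsurj (R.neg_mem hd'))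
    have hrd : rf D d (rf D e d) = -d := by
      rw [rf_fix D ((hs.symm _ _).trans hed), rf, mul_div_assoc, div_self hdd, mul_one, two_smul]
      abel
    have hρW : (ρ : Matrix ι ι F) *ᵥ W = W :=
      two_refl_fix D hρx (herm_swap_zero D.form (hRW hd')) (herm_swap_zero D.form (hRW heR))
    have hA := HM.conj D hM (HM.rat D hHM hu (hmemU ha)) hg
    have hA' := HM.conj D hM hA hρ
    have hB := HM.conj D hM (HM.rat D hHM hu (hmemU hb)) hg
    rw [← hW, hρW, ea, mulVec_add, mulVec_smul, mulVec_smul, hρx, hrd, hρW] at hA'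
    rw [← hW, eb, show k • em' F₀ P (-d) + c' • W = k • em' F₀ P (-d) + c • W + (c' - c) • W by module] at hB
    have hreal : σ (c' - c) = c' - c := by
      by_contra hne
      exact hW0 (hno _ (centre_of_shift D hA' hB hne))
    have h2 : (2 : F₀) • d ∈ R0 := by
      refine (hR0 _).2 ⟨R.smul_mem _ hd', a - b, U.sub_mem ha hb, c - c', ?_, ?_⟩
      · rw [map_sub] at hreal ⊢
        linear_combination -hreal
      · rw [em_sub, mulVec_sub, ea, eb, em_smul, em_neg, show ((2 : F₀) : F) = 2 from rfl]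
        module
    exact (Submodule.smul_mem_iff _ (two' D)).1 h2
  have hall : ∀ r ∈ R, r ∈ R0 := by
    obtain ⟨d, hd', hdd⟩ := Orth.exists_aniso hs (two' D) (W := R) (by omega)
    intro r hr
    by_cases h1 : rb D r r ≠ 0
    · exact haniso r hr h1
    push Not at h1
    by_cases h2 : rb D (r + d) (r + d) ≠ 0
    · have := R0.sub_mem (haniso _ (R.add_mem hr hd') h2) (haniso d hd' hdd)
      rwa [add_sub_cancel_right] at this
    push Not at h2
    have h3 : rb D (r - d) (r - d) ≠ 0 := fun h3 => by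
      simp only [Orth.sym_sub_left hs, Orth.sym_sub_right hs, hs.bilinear.add_left, hs.bilinear.add_right,
        h1, hs.symm d r] at h2 h3
      exact hdd ((mul_eq_zero.1 (show (2 : F₀) * rb D d d = 0 by linear_combination h2 + h3)).resolve_left (two' D))
    have := R0.add_mem (haniso _ (R.sub_mem hr hd') h3) (haniso d hd' hdd)
    rwa [sub_add_cancel] at this
  obtain ⟨r, hr, hrr, hr0⟩ := singular_avoid D R ⊥ (by rw [finrank_bot]; omega)
  have hr0' : r ≠ 0 := fun h => hr0 (h ▸ Submodule.zero_mem _)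
  obtain ⟨-, a, ha, c, hc, e⟩ := (hR0 r).1 (hall r hr)
  obtain ⟨t, ht⟩ : ∃ t : F₀, (t : F) = c := ⟨⟨c, (D.fix _).2 hc⟩, rfl⟩
  have hae : (g : Matrix ι ι F) *ᵥ em' F₀ P (a - t • u) = k • em' F₀ P r := by
    rw [em_sub, mulVec_sub, em_smul, mulVec_smul, e, ← hW, ht, add_sub_cancel_right]
  refine hcon (a - t • u) r k (fun h => ?_) (Subtype.ext ?_) hae
  · rw [h, em_zero, mulVec_zero, eq_comm, smul_eq_zero] at hae
    exact hae.elim hk0 (em_ne_zero F₀ P hr0')
  · rw [rb_coe, ← hi, hae, D.form.smul_left, herm_smul_right D.form, ← rb_coe D, hrr]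
    simp

end CfsgLib.Perm.Trans.Unit.ORat
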