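import Cfsg.Agent.Lib.Perm.Trans.UnitMax
import Cfsg.Agent.Lib.Perm.Trans.UnitSubfMax

/-!
# Stabilisers of nondegenerate planes are maximal in five dimensional special unitary groups
-/

set_option autoImplicit false
set_option linter.all false

namespace CfsgLib.Perm.Trans.Unit

open scoped Matrix
open Matrix Cfsg.Geo CfsgLib.Perm.Asch CfsgLib.Perm.Trans

variable {ι : Type} [Fintype ι] [DecidableEq ι] {F : Type*} [Field F] [Fintype F]
variable {σ : F ≃+* F} {f : (ι → F) → (ι → F) → F} (hf : IsUnitaryForm σ f)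
include hf

/-- a vector with one prescribed product and prescribed norm -/
theorem exists_vec_one {P : Submodule F (ι → F)} (hP : IsNondegenerateOn f P) (hdim : 3 ≤ Module.finrank F P)
    {b : ι → F} {z₀ : ι → F} (hz₀ : z₀ ∈ P) {μ : F} (hμ : σ μ = μ) :
    ∃ z ∈ P, f z b = f z₀ b ∧ f z z = μ := by
  obtain ⟨S, hS⟩ : ∃ S, S = P ⊓ perpOf hf b := ⟨_, rfl⟩
  have hSb : ∀ u ∈ S, u ∈ P ∧ f u b = 0 := fun u hu => by
    rw [hS] at hu
    exact ⟨hu.1, hu.2⟩
  by_cases hq : ∃ q ∈ S, f q q ≠ 0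
  · obtain ⟨q, hq, hqq⟩ := hq
    obtain ⟨hqP, hqb⟩ := hSb q hq
    obtain ⟨z₁, hz₁⟩ : ∃ z₁, z₁ = z₀ - (f z₀ q / f q q) • q := ⟨_, rfl⟩
    have hz₁q : f z₁ q = 0 := by rw [hz₁, herm_sub_left hf, hf.smul_left, div_mul_cancel₀ _ hqq, sub_self]
    obtain ⟨c, hc⟩ := exists_norm hf (d := (μ - f z₁ z₁) / f q q) (by
      rw [map_div₀, map_sub, hμ, ← hf.herm, ← hf.herm])
    refine ⟨z₁ + c • q, P.add_mem (hz₁ ▸ P.sub_mem hz₀ (P.smul_mem _ hqP)) (P.smul_mem c hqP), ?_, ?_⟩
    · rw [hz₁, hf.add_left, herm_sub_left hf, hf.smul_left, hf.smul_left, hqb, mul_zero, mul_zero, sub_zero, add_zero]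
    · rw [hf.add_left, herm_add_right hf, herm_add_right hf, hf.smul_left, hf.smul_left, herm_smul_right hf,
        herm_smul_right hf, hz₁q, herm_swap_zero hf hz₁q, mul_zero, mul_zero, add_zero, zero_add, ← mul_assoc, hc,
        div_mul_cancel₀ _ hqq, add_sub_cancel]
  push Not at hq
  by_cases hu : ∃ u ∈ S, f z₀ u ≠ 0
  · obtain ⟨u, hu, hzu⟩ := hu
    obtain ⟨huP, hub⟩ := hSb u hu
    obtain ⟨x, hx⟩ := exists_trace hf (d := μ - f z₀ z₀) (by rw [map_sub, hμ, ← hf.herm])
    refine ⟨z₀ + σ (x / f z₀ u) • u, P.add_mem hz₀ (P.smul_mem _ huP), ?_, ?_⟩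
    · rw [hf.add_left, hf.smul_left, hub, mul_zero, add_zero]
    · have hσ : σ (f z₀ u) ≠ 0 := by simpa using hzu
      rw [herm_line hf, hq u hu, hf.involutive, hf.herm u z₀, map_div₀, div_mul_cancel₀ _ hzu, div_mul_cancel₀ _ hσ,
        mul_zero, add_zero]
      linear_combination hx
  push Not at hu
  exfalso
  have hZ : ∀ u ∈ S, ∀ v ∈ S, f u v = 0 := fun u hu v hv' => herm_zero_of_norms hf hq hu hv'
  have h1 := two_mul_finrank_le hf hZ hP (fun u hu => (hSb u hu).1)
  have h2 := finrank_inf_perp hf P b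
  rw [← hS] at h2
  omega

/-- two independent isotropic vectors of a space of dimension three: prescribed products, prescribed norm -/
theorem exists_vec_pair {P : Submodule F (ι → F)} (hP : IsNondegenerateOn f P) (hdim : Module.finrank F P = 3)
    {b b' : ι → F} (hb : b ∈ P) (hb' : b' ∈ P) (hb0 : b ≠ 0) (hbb : f b b = 0) (hb'b' : f b' b' = 0)
    (hdep : b' ∉ Submodule.span F {b}) {z₀ : ι → F} (hz₀ : z₀ ∈ P) {μ : F} (hμ : σ μ = μ) :
    ∃ z ∈ P, f z b = f z₀ b ∧ f z b' = f z₀ b' ∧ f z z = μ := by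
  obtain ⟨S, hS⟩ : ∃ S, S = P ⊓ perpOf hf b ⊓ perpOf hf b' := ⟨_, rfl⟩
  have h2 := finrank_inf_perp hf P b
  have h3 := finrank_inf_perp hf (P ⊓ perpOf hf b) b'
  rw [← hS] at h3
  obtain ⟨q, hq, hq0⟩ := Submodule.exists_mem_ne_zero_of_ne_bot (p := S) (fun h => by
    rw [h, finrank_bot] at h3; omega)
  rw [hS] at hq
  have hqP : q ∈ P := hq.1.1
  have hqb : f q b = 0 := hq.1.2
  have hqb' : f q b' = 0 := hq.2
  have small : ∀ y ∈ P, f y y = 0 → f y b = 0 → y ∈ Submodule.span F {b} := by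
    intro y hy hyy hyb
    obtain ⟨Z, hZ⟩ : ∃ Z, Z = Submodule.span F {b} ⊔ Submodule.span F {y} := ⟨_, rfl⟩
    have h1 := two_mul_finrank_le hf (Z := Z) (fun u hu v hv' => by
      rw [hZ] at hu hv'
      obtain ⟨_, hx, _, hx', rfl⟩ := Submodule.mem_sup.1 hu
      obtain ⟨_, hy1, _, hy1', rfl⟩ := Submodule.mem_sup.1 hv'
      obtain ⟨r, rfl⟩ := Submodule.mem_span_singleton.1 hx
      obtain ⟨r', rfl⟩ := Submodule.mem_span_singleton.1 hx'
      obtain ⟨t, rfl⟩ := Submodule.mem_span_singleton.1 hy1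
      obtain ⟨t', rfl⟩ := Submodule.mem_span_singleton.1 hy1'
      simp only [hf.add_left, herm_add_right hf, hf.smul_left, herm_smul_right hf, hbb, hyy, hyb,
        herm_swap_zero hf hyb, mul_zero, add_zero]) hP
      (hZ ▸ sup_le ((Submodule.span_singleton_le_iff_mem _ _).2 hb) ((Submodule.span_singleton_le_iff_mem _ _).2 hy))
    rw [hdim] at h1
    have hle : Submodule.span F {b} ≤ Z := hZ ▸ le_sup_left
    rw [Submodule.eq_of_le_of_finrank_le hle (by rw [finrank_span_singleton hb0]; omega), hZ]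
    exact Submodule.mem_sup_right (Submodule.mem_span_singleton_self y)
  have hqq : f q q ≠ 0 := by
    intro h0
    obtain ⟨r, hr⟩ := Submodule.mem_span_singleton.1 (small q hqP h0 hqb)
    have hr0 : r ≠ 0 := fun h => hq0 (by rw [← hr, h, zero_smul])
    rw [← hr, hf.smul_left, mul_eq_zero, or_iff_right hr0] at hqb'
    exact hdep (small b' hb' hb'b' (herm_swap_zero hf hqb'))
  obtain ⟨z₁, hz₁⟩ : ∃ z₁, z₁ = z₀ - (f z₀ q / f q q) • q := ⟨_, rfl⟩
  have hz₁q : f z₁ q = 0 := by rw [hz₁, herm_sub_left hf, hf.smul_left, div_mul_cancel₀ _ hqq, sub_self]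
  obtain ⟨c, hc⟩ := exists_norm hf (d := (μ - f z₁ z₁) / f q q) (by
    rw [map_div₀, map_sub, hμ, ← hf.herm, ← hf.herm])
  refine ⟨z₁ + c • q, P.add_mem (hz₁ ▸ P.sub_mem hz₀ (P.smul_mem _ hqP)) (P.smul_mem c hqP), ?_, ?_, ?_⟩
  · rw [hz₁, hf.add_left, herm_sub_left hf, hf.smul_left, hf.smul_left, hqb, mul_zero, mul_zero, sub_zero, add_zero]
  · rw [hz₁, hf.add_left, herm_sub_left hf, hf.smul_left, hf.smul_left, hqb', mul_zero, mul_zero, sub_zero,
      add_zero]
  · rw [hf.add_left, herm_add_right hf, herm_add_right hf, hf.smul_left, hf.smul_left, herm_smul_right hf,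
      herm_smul_right hf, hz₁q, herm_swap_zero hf hz₁q, mul_zero, mul_zero, add_zero, zero_add, ← mul_assoc, hc,
      div_mul_cancel₀ _ hqq, add_sub_cancel]

/-- stabilisers of nondegenerate lines are maximal in dimension five -/
theorem line_subspace_maximal_five (h5 : Fintype.card ι = 5) {W : Submodule F (ι → F)}
    (hW : IsNondegenerateOn f W) (hdim : Module.finrank F W = 2) :
    IsMaximalIn (isoU f ⊓ specialLinear ι F) (subspaceStabilizer W ⊓ (isoU f ⊓ specialLinear ι F)) := by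
  have hP := isNondegenerateOn_perp hf hW
  have hsum := finrank_add_perp hf hW
  have hW0 : W ≠ ⊥ := fun h => by rw [h, finrank_bot] at hdim; omega
  have hPdim : Module.finrank F (perp hf W) = 3 := by omega
  obtain ⟨δ, hδ, hδσ⟩ := exists_trace_zero hf
  obtain ⟨a₀, ha₀, ha₀a₀⟩ := exists_anisotropic hf hW hW0
  have hvec : ∀ (b : ι → F), b ∈ perp hf W → ∀ z₀ ∈ perp hf W, ∀ μ : F, σ μ = μ →
      ∃ z ∈ perp hf W, f z b = f z₀ b ∧ f z b = f z₀ b ∧ f z z = μ := fun b _ z₀ hz₀ μ hμ => by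
    obtain ⟨z, h1, h2, h3⟩ := exists_vec_one hf hP hPdim.ge hz₀ hμ (b := b)
    exact ⟨z, h1, h2, h2, h3⟩
  refine isMaximalIn_of_centres hf (by omega) (fun hle => ?_) fun M hHM hM hMW => ?_
  · obtain ⟨b, hb, -, -, hbb⟩ := hvec 0 (zero_mem _) 0 (zero_mem _) (-f a₀ a₀) (by rw [map_neg, ← hf.herm])
    obtain ⟨u, hu⟩ : ∃ u, u = a₀ + b := ⟨_, rfl⟩
    have huu : f u u = 0 := by
      rw [hu, hf.add_left, herm_add_right hf, herm_add_right hf, hbb, herm_swap_zero hf (hb a₀ ha₀), hb a₀ ha₀]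
      ring
    have h0 := utv_orth hf huu δ
    have hiff : a₀ ∈ W ↔ (tv u (δ • hv hf u) h0 : Matrix ι ι F) *ᵥ a₀ ∈ W :=
      hle ⟨mem_isoU.2 (utv_isometry hf u huu hδσ h0), tv_mem_SL _ _ _⟩ a₀
    have h1 := hiff.1 ha₀
    rw [tv_mulVec, smul_dotProduct, hv_dot, hu, herm_add_right hf, herm_swap_zero hf (hb a₀ ha₀), add_zero,
      smul_eq_mul, W.add_mem_iff_right ha₀, W.smul_mem_iff (mul_ne_zero hδ ha₀a₀), W.add_mem_iff_right ha₀] at h1
    have hb0 := disjoint_perp hf hW h1 hb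
    rw [hb0, herm_zero_left hf] at hbb
    exact ha₀a₀ (neg_eq_zero.1 hbb.symm)
  have hMiso : M ≤ isoU f := fun g hg => (hM hg).1
  have hWc : ∀ u ∈ W, f u u = 0 → u ∈ centres hf M := fun u hu huu =>
    mem_centres_of_stab hf hHM huu fun c h0 => stab_of_centre hf (Or.inl hu) c h0
  have hPc : ∀ u ∈ perp hf W, f u u = 0 → u ∈ centres hf M := fun u hu huu =>
    mem_centres_of_stab hf hHM huu fun c h0 => stab_of_centre hf (Or.inr hu) c h0
  have hsplit : ∀ a ∈ W, ∀ b ∈ perp hf W, ∀ a' ∈ W, ∀ b' ∈ perp hf W, f (a + b) (a' + b') = f a a' + f b b' := by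
    intro a ha b hb a' ha' b' hb'
    rw [hf.add_left, herm_add_right hf, herm_add_right hf, hb a' ha', herm_swap_zero hf (hb' a ha)]
    ring
  -- two vectors of `perp W` with the same norm
  have hchain : ∀ a ∈ W, ∀ b ∈ perp hf W, b ≠ 0 → a + b ∈ centres hf M → ∀ b' ∈ perp hf W, b' ≠ 0 →
      f b' b' = f b b → a + b' ∈ centres hf M := by
    intro a ha
    have step : ∀ b ∈ perp hf W, a + b ∈ centres hf M → ∀ b' ∈ perp hf W, f b' b' = f b b →
        f b b' = f b b - δ → a + b' ∈ centres hf M := by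
      intro b hb hA b' hb' hN hv'
      have h1 := centres_line hf hMiso hA (hPc (b' - b) (sub_mem hb' hb) (by
        rw [herm_sub_left hf, herm_sub_right hf, herm_sub_right hf, hN, hf.herm b' b, hv', map_sub, hδσ, ← hf.herm]
        ring)) (r := 1) (by
          rw [hf.add_left, herm_sub_right hf, herm_swap_zero hf (hb' a ha), herm_swap_zero hf (hb a ha),
            herm_sub_right hf, hv']
          simpa using hδ) (by
          rw [one_smul, show a + b + (b' - b) = a + b' by abel, hsplit a ha b' hb' a ha b' hb', hN,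
            ← hsplit a ha b hb a ha b hb]
          exact hA.1)
      rwa [one_smul, show a + b + (b' - b) = a + b' by abel] at h1
    have hind : ∀ b ∈ perp hf W, b ≠ 0 → f b b = 0 → a + b ∈ centres hf M → ∀ b' ∈ perp hf W,
        b' ∉ Submodule.span F {b} → f b' b' = f b b → a + b' ∈ centres hf M := by
      intro b hb hb0 hbb hA b' hb' hdep hN
      obtain ⟨z₀, hz₀, h1, h2⟩ := exists_values hf hP hb hb' hb0 hdep (f b b + δ) (f b' b' - δ)
      obtain ⟨z, hz, hzb, hzb', hzz⟩ := exists_vec_pair hf hP hPdim hb hb' hb0 hbb (hN.trans hbb) hdep hz₀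
        (μ := f b b) (by rw [← hf.herm])
      have h3 := step b hb hA z hz hzz (by rw [hf.herm, hzb, h1, map_add, hδσ, ← hf.herm]; ring)
      exact step z hz h3 b' hb' (hN.trans hzz.symm) (by rw [hzb', h2, hN, hzz])
    intro b hb hb0 hA b' hb' hb'0 hN
    by_cases hbb : f b b = 0
    swap
    · obtain ⟨k, hk, hkb⟩ := fixU_norm_move hf hP (by omega) hb hb' hN.symm hbb
      have hkW : ∀ z ∈ W, (k : Matrix ι ι F) *ᵥ z = z := fun z hz =>
        hk.2 z fun w hw => herm_swap_zero hf (hw z hz)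
      have hkM : k ∈ M := hHM ⟨by
        by_contra hn'
        obtain ⟨q, hq, hgq⟩ := exists_moved_of_not_stab hn'
        exact hgq (by rw [hkW q hq]; exact hq), hk.1⟩
      have h2 := centres_conj hf hMiso hkM hA
      rwa [mulVec_add, hkb, hkW a ha] at h2
    by_cases hdep : b' ∈ Submodule.span F {b}
    · obtain ⟨s, rfl⟩ := Submodule.mem_span_singleton.1 hdep
      obtain ⟨y, hy, hyb⟩ : ∃ y ∈ perp hf W, f y b = f b b + δ := by
        obtain ⟨φ, hφ, -⟩ := exists_dual (⊥ : Submodule F (ι → F)) (fun h => hb0 ((Submodule.mem_bot F).1 h))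
        obtain ⟨y, hy, hyf⟩ := exists_rep_on hf hP (σ (f b b + δ) • φ)
        exact ⟨y, hy, by rw [hf.herm, hyf b hb, smul_dotProduct, hφ, smul_eq_mul, mul_one, hf.involutive]⟩
      obtain ⟨z, hz, hzb, -, hzz⟩ := hvec b hb y hy (f b b) (by rw [← hf.herm])
      have hz0 : z ∉ Submodule.span F {b} := by
        intro hm
        obtain ⟨r, rfl⟩ := Submodule.mem_span_singleton.1 hm
        rw [hf.smul_left, hyb] at hzb
        rw [hf.smul_left, herm_smul_right hf] at hzz
        have h2 := congrArg σ hzb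
        rw [map_mul, map_add, hδσ, ← hf.herm] at h2
        have h3 : δ * δ = 0 := by
          linear_combination (σ r * f b b) * hzb + (f b b + δ) * h2 - f b b * hzz
        exact hδ (mul_self_eq_zero.1 h3)
      have hz0' : z ≠ 0 := fun h => hz0 (h ▸ zero_mem _)
      have h1 := hind b hb hb0 hbb hA z hz hz0 hzz
      refine hind z hz hz0' (hzz.trans hbb) h1 _ hb' (fun hm => hz0 ?_) (hN.trans hzz.symm)
      obtain ⟨r, hr⟩ := Submodule.mem_span_singleton.1 hm
      have hr0 : r ≠ 0 := fun h => hb'0 (by rw [← hr, h, zero_smul])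
      rw [show z = r⁻¹ • (s • b) by rw [← hr, smul_smul, inv_mul_cancel₀ hr0, one_smul]]
      exact Submodule.smul_mem _ _ (Submodule.smul_mem _ _ (Submodule.mem_span_singleton_self b))
    · exact hind b hb hb0 hbb hA b' hb' hdep hN
  let Good : (ι → F) → Prop := fun a => a ∈ W ∧ ∀ b ∈ perp hf W, f b b = -f a a → a + b ∈ centres hf M
  have hgood : ∀ a ∈ W, f a a ≠ 0 → ∀ b ∈ perp hf W, a + b ∈ centres hf M → Good a := by
    intro a ha hne b hb hA
    refine ⟨ha, fun b' hb' hN => ?_⟩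
    have hbb : f b b = -f a a := by
      have h1 := hA.1
      rw [hsplit a ha b hb a ha b hb] at h1
      linear_combination h1
    exact hchain a ha b hb (fun h => hne (neg_eq_zero.1 (by rw [← hbb, h, herm_zero_left hf]))) hA b' hb'
      (fun h => hne (neg_eq_zero.1 (by rw [← hN, h, herm_zero_left hf]))) (hN.trans hbb.symm)
  have hmove : ∀ a, Good a → f a a ≠ 0 → ∀ a' ∈ W, f a' a' = f a a → Good a' := by
    intro a hG hne a' ha' hN
    obtain ⟨g, ⟨hgi, hgW⟩, hgP, hga⟩ := exists_norm_move hf hG.1 ha' hN.symm hne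
    -- compensate the determinant
    obtain ⟨p, hp, hpp⟩ := exists_anisotropic hf hP (fun h0 => by rw [h0, finrank_bot] at hPdim; omega)
    obtain ⟨ζ, hζdef⟩ : ∃ ζ, ζ = (g : Matrix ι ι F).det := ⟨_, rfl⟩
    have hζ0 : ζ ≠ 0 := hζdef ▸ (Matrix.isUnit_iff_isUnit_det _).1 g.isUnit |>.ne_zero
    have hnorm : ζ * σ ζ = 1 := by
      let J : Matrix ι ι F := Matrix.of fun i j => f (Pi.single i 1) (Pi.single j 1)
      have hJ : ∀ x y : ι → F, f x y = x ⬝ᵥ (J *ᵥ (σ ∘ y)) := by
        intro x y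
        have hsumR : ∀ (s : Finset ι) (c : ι → F) (v : ι → ι → F) (x : ι → F),
            f x (∑ j ∈ s, c j • v j) = ∑ j ∈ s, σ (c j) * f x (v j) := by
          intro s c v x
          induction s using Finset.induction_on with
          | empty => simp [herm_zero_right hf]
          | @insert i s hi ih => rw [Finset.sum_insert hi, Finset.sum_insert hi, herm_add_right hf,
              herm_smul_right hf, ih]
        have hsumL : ∀ (s : Finset ι) (c : ι → F) (v : ι → ι → F) (y : ι → F),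
            f (∑ j ∈ s, c j • v j) y = ∑ j ∈ s, c j * f (v j) y := by
          intro s c v y
          induction s using Finset.induction_on with
          | empty => simp [herm_zero_left hf]
          | @insert i s hi ih => rw [Finset.sum_insert hi, Finset.sum_insert hi, hf.add_left, hf.smul_left, ih]
        conv_lhs => rw [pi_eq_sum_univ' x, pi_eq_sum_univ' y, hsumL]
        simp only [hsumR, dotProduct, Matrix.mulVec, J, Matrix.of_apply, Function.comp_apply]
        refine Finset.sum_congr rfl fun i _ => ?_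
        congr 1
        exact Finset.sum_congr rfl fun j _ => mul_comm _ _
      have hJdet : J.det ≠ 0 := by
        intro h0
        obtain ⟨v, hv0, hv'⟩ := Matrix.exists_mulVec_eq_zero_iff.2 h0
        obtain ⟨x, hx⟩ := (hf.nondegenerate (σ ∘ v) (fun h => hv0 (funext fun i => by
          have := congrFun h i; simpa using this))).1
        refine hx ?_
        rw [hJ, show σ ∘ (σ ∘ v) = v from funext fun i => hf.involutive _, hv', dotProduct_zero]
      have hgJ : (g : Matrix ι ι F)ᵀ * J * (g : Matrix ι ι F).map σ = J := by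
        refine Matrix.ext_iff_mulVec.2 fun y => ?_
        refine dotProduct_eq _ _ fun x => ?_
        have hy : (σ ∘ fun i => σ (y i)) = y := funext fun i => hf.involutive _
        have hmap : σ ∘ ((g : Matrix ι ι F) *ᵥ fun i => σ (y i)) = (g : Matrix ι ι F).map σ *ᵥ y := funext fun i => by
          simp [Matrix.mulVec, dotProduct, map_sum, map_mul, hf.involutive]
        have h1 := mem_isoU.1 hgi x fun i => σ (y i)
        rw [hJ, hJ, hy, hmap] at h1
        rw [← mulVec_mulVec, ← mulVec_mulVec, dotProduct_comm _ x, dotProduct_comm _ x, dotProduct_mulVec,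
          ← mulVec_transpose, transpose_transpose]
        exact h1
      have h1 := congrArg Matrix.det hgJ
      have h2 : ((g : Matrix ι ι F).map σ).det = σ ζ := by
        rw [hζdef]; exact (RingHom.map_det (σ : F →+* F) _).symm
      rw [det_mul, det_mul, det_transpose, h2, ← hζdef, mul_comm ζ J.det, mul_assoc] at h1
      exact mul_left_cancel₀ hJdet (h1.trans (mul_one _).symm)
    obtain ⟨k, hk, hkdet, hkf⟩ := exists_qref hf hpp (ζ := ζ⁻¹) (by rw [map_inv₀, ← mul_inv, hnorm, inv_one])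
    have hkW : ∀ x ∈ W, (k : Matrix ι ι F) *ᵥ x = x := fun x hx => by
      rw [hkf, herm_swap_zero hf (hp x hx), mul_zero, zero_smul, add_zero]
    have hkg : k * g ∈ M := hHM ⟨mul_mem (qref_stab hf (Or.inr hp) hkf) hgW, mul_mem hk hgi, Units.ext (by
      show ((k * g : GL ι F) : Matrix ι ι F).det = 1
      rw [Units.val_mul, det_mul, hkdet, ← hζdef, inv_mul_cancel₀ hζ0])⟩
    obtain ⟨b, hb, -, -, hbb⟩ := hvec 0 (zero_mem _) 0 (zero_mem _) (-f a a) (by rw [map_neg, ← hf.herm])
    have h1 := centres_conj hf hMiso hkg (hG.2 b hb hbb)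
    rw [gl_mul_mulVec, mulVec_add, hga, hgP b hb, mulVec_add, hkW a' ha'] at h1
    refine hgood a' ha' (hN ▸ hne) _ ?_ h1
    rw [hkf]
    exact (perp hf W).add_mem hb ((perp hf W).smul_mem _ hp)
  -- scaling
  have hscale : ∀ a, Good a → f a a ≠ 0 → ∀ c : F, c ≠ 0 → c ≠ 1 → Good (c • a) := by
    intro a hG hne c hc0 hc1
    obtain ⟨b, hb, -, -, hbb⟩ := hvec 0 (zero_mem _) 0 (zero_mem _) (-f a a) (by rw [map_neg, ← hf.herm])
    have hb0 : b ≠ 0 := fun h => hne (neg_eq_zero.1 (by rw [← hbb, h, herm_zero_left hf]))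
    obtain ⟨η, hη⟩ : ∃ η, η = (c - 1) / δ - f a a := ⟨_, rfl⟩
    obtain ⟨φ, hφ, -⟩ := exists_dual (⊥ : Submodule F (ι → F)) (fun h => hb0 ((Submodule.mem_bot F).1 h))
    obtain ⟨y, hy, hyf⟩ := exists_rep_on hf hP (η • φ)
    obtain ⟨z, hz, hzb, -, hzz⟩ := hvec b hb y hy (-f a a) (by rw [map_neg, ← hf.herm])
    have hbz : f b z = η := by rw [hf.herm, hzb, ← hf.herm, hyf b hb, smul_dotProduct, hφ, smul_eq_mul, mul_one]
    have h1 := hG.2 b hb hbb
    have h2 := hG.2 z hz hzz
    have hS : f (a + b) (a + z) = (c - 1) / δ := by rw [hsplit a hG.1 b hb a hG.1 z hz, hbz, hη]; ring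
    have h3 := centres_line hf hMiso h1 h2 (r := c - 1) (by rw [hS]; exact div_ne_zero (sub_ne_zero.2 hc1) hδ) (by
      rw [herm_line hf, h1.1, h2.1, hf.herm (a + z) (a + b), hS, map_div₀, hδσ]
      field_simp
      ring)
    refine hgood _ (W.smul_mem c hG.1) ?_ (b + (c - 1) • z) (add_mem hb ((perp hf W).smul_mem _ hz)) ?_
    · rw [hf.smul_left, herm_smul_right hf]
      exact mul_ne_zero hc0 (mul_ne_zero (by simpa using hc0) hne)
    · rwa [show a + b + (c - 1) • (a + z) = c • a + (b + (c - 1) • z) by module] at h3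
  -- a first good vector
  obtain ⟨g, hgM, hg⟩ := SetLike.not_le_iff_exists.1 hMW
  obtain ⟨x, hxA, hxW, hxP⟩ : ∃ x, x ∈ centres hf M ∧ x ∉ W ∧ x ∉ perp hf W := by
    by_contra hcon
    push Not at hcon
    obtain ⟨e, he, he0, hee⟩ := exists_isotropic hf (W := perp hf W) (by omega)
    obtain ⟨y, hy, hey⟩ := (hP e he he0).2
    obtain ⟨h, hh, hhh, heh, -⟩ := exists_partner hf he hee hy hey
    have hside : ∀ z ∈ perp hf W, f z z = 0 →
        (g : Matrix ι ι F) *ᵥ z ∈ W ∨ (g : Matrix ι ι F) *ᵥ z ∈ perp hf W := fun z hz hzz => by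
      by_contra hn'
      push Not at hn'
      exact hn'.2 (hcon _ (centres_conj hf hMiso hgM (hPc z hz hzz)) hn'.1)
    have hiso := mem_isoU.1 (hMiso hgM)
    have hclose : ∀ T : Submodule F (ι → F), (T = W ∨ T = perp hf W) → (g : Matrix ι ι F) *ᵥ e ∈ T →
        ∀ z ∈ perp hf W, (g : Matrix ι ι F) *ᵥ z ∈ T := by
      intro T hT heT
      have hle := subspace_le_of_pair hf (S := T.comap (Matrix.toLin' (g : Matrix ι ι F))) he hee hh hhh heh
        (by simpa [Matrix.toLin'_apply] using heT) (fun z hz hzz hne => by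
          show Matrix.toLin' (g : Matrix ι ι F) z ∈ T
          rw [Matrix.toLin'_apply]
          rcases hT with rfl | rfl <;> rcases hside z hz hzz with h' | h'
          · exact h'
          · exact absurd (by rw [← hiso]; exact herm_swap_zero hf (h' _ heT)) hne
          · exact absurd (by rw [← hiso]; exact heT _ h') hne
          · exact h')
      intro z hz
      simpa [Matrix.toLin'_apply] using hle hz
    have hinj : Function.Injective (Matrix.toLin' (g : Matrix ι ι F)) := fun a b hab => by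
      have := congrArg (fun x => ((g⁻¹ : GL ι F) : Matrix ι ι F) *ᵥ x) hab
      simpa only [Matrix.toLin'_apply, gl_inv_mulVec] using this
    rcases hside e he hee with h1 | h1
    · have hle : (perp hf W).map (Matrix.toLin' (g : Matrix ι ι F)) ≤ W := by
        rintro _ ⟨z, hz, rfl⟩
        rw [Matrix.toLin'_apply]
        exact hclose W (Or.inl rfl) h1 z hz
      have := Submodule.finrank_mono hle
      rw [← (Submodule.equivMapOfInjective _ hinj (perp hf W)).finrank_eq] at this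
      omega
    · have hgP : g ∈ subspaceStabilizer (perp hf W) := by
        by_contra hn'
        obtain ⟨q, hq, hgq⟩ := exists_moved_of_not_stab hn'
        exact hgq (hclose _ (Or.inr rfl) h1 q hq)
      obtain ⟨w, hw, hgw⟩ := exists_moved_of_not_stab hg
      refine hgw (perp_perp hf hW fun p hp => ?_)
      have hp' : ((g⁻¹ : GL ι F) : Matrix ι ι F) *ᵥ p ∈ perp hf W :=
        (((subspaceStabilizer (perp hf W)).inv_mem hgP) p).1 hp
      rw [← gl_mulVec_inv g p, hiso]
      exact herm_swap_zero hf (hp' w hw)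
  obtain ⟨a, haG, hane⟩ : ∃ a, Good a ∧ f a a ≠ 0 := by
    obtain ⟨a, ha, hb⟩ := exists_decomp hf hW x
    obtain ⟨b, hbdef⟩ : ∃ b, b = x - a := ⟨_, rfl⟩
    rw [← hbdef] at hb
    have hx : x = a + b := by rw [hbdef]; abel
    rw [hx] at hxA hxW hxP
    by_cases hne : f a a = 0
    swap
    · exact ⟨a, hgood a ha hne b hb hxA, hne⟩
    have ha0 : a ≠ 0 := fun h0 => hxP (by rw [h0, zero_add]; exact hb)
    have hb0 : b ≠ 0 := fun h0 => hxW (by rw [h0, add_zero]; exact ha)
    have hbb : f b b = 0 := by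
      have h1 := hxA.1
      rw [hsplit a ha b hb a ha b hb, hne] at h1
      linear_combination h1
    obtain ⟨y, hy, hay⟩ := (hW a ha ha0).2
    obtain ⟨h, hh, hhh, hah, hha⟩ := exists_partner hf ha hne hy hay
    -- move `a` by a transvection of `W`
    obtain ⟨h0, hmem⟩ := (hWc h hh hhh).2 δ hδσ
    have h1 := centres_conj hf hMiso hmem hxA
    rw [tv_mulVec, smul_dotProduct, hv_dot, hf.add_left, hah, hb h hh, add_zero, smul_eq_mul, mul_one] at h1
    obtain ⟨a', ha'⟩ : ∃ a', a' = a + δ • h := ⟨_, rfl⟩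
    have ha'W : a' ∈ W := ha' ▸ W.add_mem ha (W.smul_mem δ hh)
    rw [show a + b + δ • h = a' + b by rw [ha']; abel] at h1
    have haa' : f a a' = -δ := by rw [ha', herm_add_right hf, hne, herm_smul_right hf, hah, hδσ]; ring
    obtain ⟨τ, hτ⟩ := exists_trace_ne_zero hf
    obtain ⟨φ, hφ, -⟩ := exists_dual (⊥ : Submodule F (ι → F)) (fun h => hb0 ((Submodule.mem_bot F).1 h))
    obtain ⟨w, hw, hwf⟩ := exists_rep_on hf hP (τ • φ)
    obtain ⟨b', hb', hbw, -, hb'b'⟩ := hvec b hb w hw 0 (map_zero σ)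
    have hbb' : f b b' = τ := by rw [hf.herm, hbw, ← hf.herm, hwf b hb, smul_dotProduct, hφ, smul_eq_mul, mul_one]
    have hb'0 : b' ≠ 0 := by
      intro h2
      rw [h2, herm_zero_right hf] at hbb'
      exact hτ (by rw [← hbb', map_zero, add_zero])
    have ha'a' : f a' a' = 0 := by
      rw [ha', hf.add_left, herm_add_right hf, herm_add_right hf, hf.smul_left, hf.smul_left, herm_smul_right hf,
        herm_smul_right hf, hne, hhh, hah, hha, hδσ]
      ring
    have h2 := hchain a' ha'W b hb hb0 h1 b' hb' hb'0 (hb'b'.trans hbb.symm)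
    have hS : f (a + b) (a' + b') = τ - δ := by rw [hsplit a ha b hb a' ha'W b' hb', haa', hbb']; ring
    obtain ⟨r, hr⟩ : ∃ r, r = δ * (τ - δ) := ⟨_, rfl⟩
    have hτδ : τ - δ ≠ 0 := fun h3 => hτ (by rw [sub_eq_zero.1 h3, hδσ, add_neg_cancel])
    have h3 := centres_line hf hMiso hxA h2 (r := r) (by rw [hS]; exact hτδ) (by
      rw [herm_line hf, hxA.1, h2.1, hf.herm (a' + b') (a + b), hS, hr, map_mul, hδσ]
      ring)
    have hN : f (a + r • a') (a + r • a') = δ * δ * (τ + σ τ) := by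
      rw [hf.add_left, herm_add_right hf, herm_add_right hf, hf.smul_left, hf.smul_left, herm_smul_right hf,
        herm_smul_right hf, hne, ha'a', hf.herm a' a, haa', map_neg, hδσ, hr, map_mul, map_sub, hδσ]
      ring
    refine ⟨a + r • a', hgood _ (W.add_mem ha (W.smul_mem r ha'W)) (hN ▸ mul_ne_zero (mul_ne_zero hδ hδ) hτ)
      (b + r • b') (add_mem hb ((perp hf W).smul_mem r hb')) ?_, hN ▸ mul_ne_zero (mul_ne_zero hδ hδ) hτ⟩
    rwa [show a + b + r • (a' + b') = a + r • a' + (b + r • b') by module] at h3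
  have hall : ∀ a' ∈ W, f a' a' ≠ 0 → Good a' := by
    intro a' ha' hne'
    obtain ⟨c, hc⟩ := exists_norm hf (d := f a' a' / f a a) (by rw [map_div₀, ← hf.herm, ← hf.herm])
    have hc0 : c ≠ 0 := fun h0 => by
      rw [h0, zero_mul, eq_comm, div_eq_zero_iff] at hc
      exact hc.elim hne' hane
    have hG : Good (c • a) := by
      rcases eq_or_ne c 1 with rfl | hc1
      · rw [one_smul]; exact haG
      · exact hscale a haG hane c hc0 hc1
    have hN : f (c • a) (c • a) = f a' a' := by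
      rw [hf.smul_left, herm_smul_right hf, ← mul_assoc, hc, div_mul_cancel₀ _ hane]
    exact hmove _ hG (hN ▸ hne') a' ha' hN.symm
  intro u huu
  obtain ⟨a', ha', hb⟩ := exists_decomp hf hW u
  obtain ⟨b', hb'def⟩ : ∃ b', b' = u - a' := ⟨_, rfl⟩
  rw [← hb'def] at hb
  have hu : u = a' + b' := by rw [hb'def]; abel
  rw [hu] at huu ⊢
  have hbb : f b' b' = -f a' a' := by
    rw [hsplit a' ha' b' hb a' ha' b' hb] at huu
    linear_combination huu
  by_cases hne : f a' a' = 0
  swap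
  · exact (hall a' ha' hne).2 b' hb hbb
  by_cases ha0 : a' = 0
  · rw [ha0, zero_add]
    exact hPc b' hb (by rw [hbb, hne, neg_zero])
  by_cases hb0 : b' = 0
  · rw [hb0, add_zero]
    exact hWc a' ha' hne
  -- an isotropic component: the sum of two good vectors
  obtain ⟨y, hy, hay⟩ := (hW a' ha' ha0).2
  obtain ⟨h, hh, hhh, hah, hha⟩ := exists_partner hf ha' hne hy hay
  obtain ⟨t, ht⟩ := exists_trace hf (d := (1 : F)) (map_one σ)
  obtain ⟨a₁, ha₁⟩ : ∃ a₁, a₁ = h + t • a' := ⟨_, rfl⟩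
  have ha₁W : a₁ ∈ W := ha₁ ▸ W.add_mem hh (W.smul_mem t ha')
  have hN₁ : f a₁ a₁ = 1 := by
    rw [ha₁, hf.add_left, herm_add_right hf, herm_add_right hf, hf.smul_left, hf.smul_left, herm_smul_right hf,
      herm_smul_right hf, hhh, hne, hah, hha]
    linear_combination ht
  have ha₁a' : f a₁ a' = 1 := by rw [ha₁, hf.add_left, hf.smul_left, hne, hha, mul_zero, add_zero]
  have hN₂ : f (a' - a₁) (a' - a₁) = -1 := by
    rw [herm_sub_left hf, herm_sub_right hf, herm_sub_right hf, hne, hN₁, hf.herm a' a₁, ha₁a', map_one]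
    ring
  obtain ⟨φ, hφ, -⟩ := exists_dual (⊥ : Submodule F (ι → F)) (fun h => hb0 ((Submodule.mem_bot F).1 h))
  obtain ⟨w, hw, hwf⟩ := exists_rep_on hf hP ((-1 - δ) • φ)
  obtain ⟨b₁, hb₁, hb₁b, -, hb₁b₁⟩ := hvec b' hb w hw (-1) (by rw [map_neg, map_one])
  have hvb : f b₁ b' = -1 + δ := by
    rw [hb₁b, hf.herm, hwf b' hb, smul_dotProduct, hφ, smul_eq_mul, mul_one, map_sub, map_neg, map_one, hδσ]
    ring
  have hb₂ : f (b' - b₁) (b' - b₁) = 1 := by
    rw [herm_sub_left hf, herm_sub_right hf, herm_sub_right hf, hbb, hne, hb₁b₁, hf.herm b' b₁, hvb, map_add,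
      map_neg, map_one, hδσ]
    ring
  have hne₁ : f a₁ a₁ ≠ 0 := by rw [hN₁]; exact one_ne_zero
  have hne₂ : f (a' - a₁) (a' - a₁) ≠ 0 := by rw [hN₂]; exact neg_ne_zero.2 one_ne_zero
  have h1 := (hall a₁ ha₁W hne₁).2 b₁ hb₁ (by rw [hb₁b₁, hN₁])
  have h2 := (hall _ (W.sub_mem ha' ha₁W) hne₂).2 (b' - b₁) ((perp hf W).sub_mem hb hb₁) (by rw [hb₂, hN₂, neg_neg])
  have hsum : a₁ + b₁ + (1 : F) • (a' - a₁ + (b' - b₁)) = a' + b' := by module
  have h3 := centres_line hf hMiso h1 h2 (r := 1) (by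
    rw [hsplit a₁ ha₁W b₁ hb₁ _ (W.sub_mem ha' ha₁W) _ ((perp hf W).sub_mem hb hb₁), herm_sub_right hf,
      herm_sub_right hf, ha₁a', hN₁, hvb, hb₁b₁]
    simpa using hδ) (by rw [hsum]; exact huu)
  rwa [hsum] at h3

end CfsgLib.Perm.Trans.Unit
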