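import Cfsg.Agent.Lib.Perm.Trans.UnitSU
import Cfsg.Agent.Lib.Perm.Trans.UnitFour.Point
import Cfsg.Agent.Lib.Perm.Trans.UnitFive.Pair

/-!
# Stabilisers of nondegenerate subspaces of the special unitary group of degree five
-/

set_option autoImplicit false
set_option linter.all false

namespace CfsgLib.Perm.Trans.GeomSUFive

open Cfsg Cfsg.Geo
open scoped Matrix

variable {F : Type*} [Field F] [Fintype F] {q : ℕ}

/-- stabilisers of nondegenerate subspaces of dimension one or two -/
theorem nondeg_subspace_maximal_su5 (hF : Fintype.card F = q ^ 2) {W : Submodule F (Fin 5 → F)} (hW0 : W ≠ ⊥)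
    (hW : IsNondegenerateOn (hermForm 5 F q) W) (hdim : 2 * Module.finrank F W < 5) :
    IsMaximalIn (GU 5 F q ⊓ specialLinear (Fin 5) F)
      (subspaceStabilizer W ⊓ (GU 5 F q ⊓ specialLinear (Fin 5) F)) := by
  obtain ⟨C⟩ := CfsgLib.Perm.Trans.Unit.ctx_of_card hF
  have hU := CfsgLib.Perm.Trans.Unit.isUnitary_hermForm C (n := 5)
  have h1 : 1 ≤ Module.finrank F W := Submodule.one_le_finrank_iff.2 hW0
  rcases (show Module.finrank F W = 1 ∨ Module.finrank F W = 2 by omega) with h | h
  · exact CfsgLib.Perm.Trans.Unit.point_subspace_maximal hU (by simp) hW h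
  · exact CfsgLib.Perm.Trans.Unit.line_subspace_maximal_five hU (Fintype.card_fin 5) hW h

end CfsgLib.Perm.Trans.GeomSUFive
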