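import Cfsg.Agent.Lib.RegUnip.SUOdd.Spread

/-!
# Spreading one transvection centre over an irreducible unitary group of degree five

An irreducible subgroup of the unitary group in five variables which contains one full transvection group contains
all of them: the components of the non-orthogonality graph on the centres span pairwise orthogonal non-degenerate
translates of equal dimension, hence there is one component, and connected spanning families spread.
-/

set_option autoImplicit false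
set_option linter.all false

namespace CfsgLib.Perm.Trans.Unit

open scoped Matrix
open Matrix Cfsg.Geo CfsgLib.Perm.Asch CfsgLib.Perm.Trans

variable {ι : Type} [Fintype ι] [DecidableEq ι] {F : Type*} [Field F] [Fintype F]
variable {σ : F ≃+* F} {f : (ι → F) → (ι → F) → F} (hf : IsUnitaryForm σ f)
include hf

/-- a vector orthogonal to a spanning set is zero -/
theorem zero_of_perp_spanning {s : Set (ι → F)} (hs : Submodule.span F s = ⊤) {x : ι → F}
    (hx : ∀ z ∈ s, f x z = 0) : x = 0 := by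
  by_contra h0
  obtain ⟨y, hy⟩ := (hf.nondegenerate x h0).2
  suffices hall : ∀ z ∈ Submodule.span F s, f x z = 0 from hy (hall y (hs ▸ Submodule.mem_top))
  intro z hz
  induction hz using Submodule.span_induction with
  | mem z hz => exact hx z hz
  | zero => exact herm_zero_right hf x
  | add a b _ _ ha hb => rw [herm_add_right hf, ha, hb, add_zero]
  | smul a b _ hb => rw [herm_smul_right hf, hb, mul_zero]

variable {M : Subgroup (GL ι F)} (hle : M ≤ isoU f)
include hle

/-- an irreducible group fixes no set of pairwise orthogonal translates of a proper subspace of dimension ≥ 2 -/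
theorem top_of_translates (h5 : Fintype.card ι = 5)
    (hirr : ∀ W : Submodule F (ι → F),
      (∀ x ∈ M, ∀ w ∈ W, (x : Matrix ι ι F) *ᵥ w ∈ W) → W = ⊥ ∨ W = ⊤)
    {S : Submodule F (ι → F)} (hS : IsNondegenerateOn f S) (h2 : 2 ≤ Module.finrank F S)
    (htr : ∀ g ∈ M, (∀ w ∈ S, (g : Matrix ι ι F) *ᵥ w ∈ S) ∨
      ∀ w ∈ S, (g : Matrix ι ι F) *ᵥ w ∈ perp hf S) : S = ⊤ := by
  have hS0 : S ≠ ⊥ := fun h => by rw [h, finrank_bot] at h2; omega
  by_cases hall : ∀ g ∈ M, ∀ w ∈ S, (g : Matrix ι ι F) *ᵥ w ∈ S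
  · exact (hirr S hall).resolve_left hS0
  push Not at hall
  obtain ⟨g, hg, w₀, hw₀, hgw₀⟩ := hall
  have hgS : ∀ w ∈ S, (g : Matrix ι ι F) *ᵥ w ∈ perp hf S :=
    (htr g hg).resolve_left fun h => hgw₀ (h w₀ hw₀)
  obtain ⟨T, hT⟩ : ∃ T, T = S.map (Matrix.toLin' (g : Matrix ι ι F)) := ⟨_, rfl⟩
  have hmemT : ∀ w ∈ S, (g : Matrix ι ι F) *ᵥ w ∈ T := fun w hw => by
    rw [hT]
    exact ⟨w, hw, Matrix.toLin'_apply _ _⟩
  have hTmem : ∀ x ∈ T, ∃ w ∈ S, (g : Matrix ι ι F) *ᵥ w = x := by
    rw [hT]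
    rintro x ⟨w, hw, rfl⟩
    exact ⟨w, hw, (Matrix.toLin'_apply _ _).symm⟩
  have hTp : T ≤ perp hf S := fun x hx => by
    obtain ⟨w, hw, rfl⟩ := hTmem x hx
    exact hgS w hw
  have hginj : Function.Injective (Matrix.toLin' (g : Matrix ι ι F)) := fun a b hab => by
    rw [Matrix.toLin'_apply, Matrix.toLin'_apply] at hab
    simpa using congrArg (((g⁻¹ : GL ι F) : Matrix ι ι F) *ᵥ ·) hab
  have hTd : Module.finrank F T = Module.finrank F S := by
    rw [hT]
    exact ((Submodule.equivMapOfInjective _ hginj S).finrank_eq).symm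
  have hTnd : IsNondegenerateOn f T := by
    intro x hx hx0
    obtain ⟨w, hw, rfl⟩ := hTmem x hx
    have hw0 : w ≠ 0 := fun h => hx0 (by rw [h, mulVec_zero])
    obtain ⟨⟨a, ha, hfa⟩, ⟨b, hb, hfb⟩⟩ := hS w hw hw0
    exact ⟨⟨_, hmemT a ha, by rwa [mem_isoU.1 (hle hg)]⟩, ⟨_, hmemT b hb, by rwa [mem_isoU.1 (hle hg)]⟩⟩
  have hsum := finrank_add_perp hf hS
  obtain ⟨-, hrest⟩ := sub_perp hf (isNondegenerateOn_perp hf hS) hTnd hTp
  have hdisj : S ⊓ T = ⊥ := by
    rw [eq_bot_iff]
    rintro x ⟨h1, h2⟩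
    exact (Submodule.mem_bot F).2 (disjoint_perp hf hS h1 (hTp h2))
  have hST := Submodule.finrank_sup_add_finrank_inf_eq S T
  rw [hdisj, finrank_bot] at hST
  -- every translate lies in `S ⊔ T`
  have hinto : ∀ h ∈ M, ∀ w ∈ S, (h : Matrix ι ι F) *ᵥ w ∈ S ⊔ T := by
    intro h hh
    rcases htr h hh with h1 | h1
    · exact fun w hw => Submodule.mem_sup_left (h1 w hw)
    rcases htr (g⁻¹ * h) (M.mul_mem (M.inv_mem hg) hh) with h2 | h2
    · intro w hw
      have := hmemT _ (h2 w hw)
      rw [← gl_mul_mulVec, mul_inv_cancel_left] at this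
      exact Submodule.mem_sup_right this
    exfalso
    have hle' : S.map (Matrix.toLin' (h : Matrix ι ι F)) ≤ perp hf S ⊓ perp hf T := by
      rintro x ⟨w, hw, rfl⟩
      rw [Matrix.toLin'_apply]
      refine ⟨h1 w hw, fun y hy => ?_⟩
      obtain ⟨v, hv, rfl⟩ := hTmem y hy
      have h3 := h2 w hw v hv
      rwa [← mem_isoU.1 (hle hg), ← gl_mul_mulVec, mul_inv_cancel_left] at h3
    have hhinj : Function.Injective (Matrix.toLin' (h : Matrix ι ι F)) := fun a b hab => by
      rw [Matrix.toLin'_apply, Matrix.toLin'_apply] at hab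
      simpa using congrArg (((h⁻¹ : GL ι F) : Matrix ι ι F) *ᵥ ·) hab
    have h4 := Submodule.finrank_mono hle'
    rw [← (Submodule.equivMapOfInjective _ hhinj S).finrank_eq] at h4
    omega
  -- so `S ⊔ T` is invariant
  have hinv : ∀ x ∈ M, ∀ w ∈ S ⊔ T, (x : Matrix ι ι F) *ᵥ w ∈ S ⊔ T := by
    intro x hx w hw
    obtain ⟨a, ha, b, hb, rfl⟩ := Submodule.mem_sup.1 hw
    obtain ⟨v, hv, rfl⟩ := hTmem b hb
    rw [mulVec_add, ← gl_mul_mulVec]
    exact (S ⊔ T).add_mem (hinto x hx a ha) (hinto _ (M.mul_mem hx hg) v hv)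
  rcases hirr _ hinv with h | h
  · exact absurd (le_bot_iff.1 (h ▸ le_sup_left : S ≤ ⊥)) hS0
  · rw [h, finrank_top, Module.finrank_fintype_fun_eq_card] at hST
    omega

/-- one centre in an irreducible group: the non-zero centres span and are connected -/
theorem centres_connected (h5 : Fintype.card ι = 5)
    (hirr : ∀ W : Submodule F (ι → F),
      (∀ x ∈ M, ∀ w ∈ W, (x : Matrix ι ι F) *ᵥ w ∈ W) → W = ⊥ ∨ W = ⊤)
    {u₀ : ι → F} (hu₀ : u₀ ≠ 0) (hc : u₀ ∈ centres hf M) :
    Submodule.span F {u | u ∈ centres hf M ∧ u ≠ 0} = ⊤ ∧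
      ∀ P : {u : ι → F // u ∈ centres hf M ∧ u ≠ 0} → Prop,
        (∀ i j : {u : ι → F // u ∈ centres hf M ∧ u ≠ 0}, P i → f (i : ι → F) (j : ι → F) ≠ 0 → P j) →
        ∀ i j, P i → P j := by
  classical
  obtain ⟨C, hC⟩ : ∃ C : Set (ι → F), C = {u | u ∈ centres hf M ∧ u ≠ 0} := ⟨_, rfl⟩
  have hmove : ∀ g ∈ M, ∀ u ∈ C, (g : Matrix ι ι F) *ᵥ u ∈ C := by
    rw [hC]
    rintro g hg u ⟨h1, h2⟩
    refine ⟨centres_conj hf hle hg h1, fun h => h2 ?_⟩
    simpa using congrArg (((g⁻¹ : GL ι F) : Matrix ι ι F) *ᵥ ·) h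
  have hspan : Submodule.span F C = ⊤ := by
    refine (hirr _ fun x hx w hw => ?_).resolve_left fun h => ?_
    · induction hw using Submodule.span_induction with
      | mem z hz => exact Submodule.subset_span (hmove x hx z hz)
      | zero => rw [mulVec_zero]; exact zero_mem _
      | add a b _ _ ha hb => rw [mulVec_add]; exact add_mem ha hb
      | smul a b _ hb => rw [mulVec_smul]; exact Submodule.smul_mem _ a hb
    · exact hu₀ ((Submodule.mem_bot F).1 (h ▸ Submodule.subset_span (by rw [hC]; exact ⟨hc, hu₀⟩)))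
  refine ⟨hC ▸ hspan, fun P hP i j hi => ?_⟩
  let adj : (ι → F) → (ι → F) → Prop := fun a b => b ∈ C ∧ f a b ≠ 0
  obtain ⟨K, hK⟩ : ∃ K : Set (ι → F), K = {b | Relation.ReflTransGen adj (i : ι → F) b} := ⟨_, rfl⟩
  have hiC : (i : ι → F) ∈ C := by rw [hC]; exact i.2
  have hKC : ∀ b ∈ K, b ∈ C := by
    rw [hK]
    intro b hb
    induction hb with
    | refl => exact hiC
    | tail _ h2 _ => exact h2.1
  have hKP : ∀ b (hb : b ∈ C), b ∈ K → P ⟨b, by rw [hC] at hb; exact hb⟩ := by
    intro b hb hbK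
    rw [hK] at hbK
    induction hbK with
    | refl => exact hi
    | tail h1 h2 ih =>
      exact hP _ _ (ih (hKC _ (by rw [hK]; exact h1))) h2.2
  have hclosed : ∀ a ∈ K, ∀ b ∈ C, f a b ≠ 0 → b ∈ K := by
    rw [hK]
    exact fun a ha b hb hab => ha.tail ⟨hb, hab⟩
  have hiK : (i : ι → F) ∈ K := by rw [hK]; exact Relation.ReflTransGen.refl
  -- the span of the component
  obtain ⟨S, hS⟩ : ∃ S, S = Submodule.span F K := ⟨_, rfl⟩
  have hperpK : ∀ b ∈ C, b ∉ K → b ∈ perp hf S := by
    intro b hb hbK w hw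
    rw [hS] at hw
    induction hw using Submodule.span_induction with
    | mem z hz =>
      by_contra h
      exact hbK (hclosed z hz b hb fun h' => h (herm_swap_zero hf h'))
    | zero => exact herm_zero_right hf b
    | add a c _ _ ha hc => rw [herm_add_right hf, ha, hc, add_zero]
    | smul a c _ hc => rw [herm_smul_right hf, hc, mul_zero]
  have hSnd : IsNondegenerateOn f S := by
    intro x hx hx0
    obtain ⟨z, hz, hxz⟩ : ∃ z ∈ K, f x z ≠ 0 := by
      by_contra hcon
      push Not at hcon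
      refine hx0 (zero_of_perp_spanning hf hspan fun z hz => ?_)
      by_cases hzK : z ∈ K
      · exact hcon z hzK
      · exact herm_swap_zero hf (hperpK z hz hzK x hx)
    have hzS : z ∈ S := by rw [hS]; exact Submodule.subset_span hz
    exact ⟨⟨z, hzS, fun h => hxz (herm_swap_zero hf h)⟩, ⟨z, hzS, hxz⟩⟩
  -- a component has a non-orthogonal pair
  obtain ⟨b, hbK, hib⟩ : ∃ b ∈ K, f (i : ι → F) b ≠ 0 := by
    by_contra hcon
    push Not at hcon
    refine i.2.2 (zero_of_perp_spanning hf hspan fun z hz => ?_)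
    by_cases hzK : z ∈ K
    · exact hcon z hzK
    · by_contra h
      exact hzK (hclosed _ hiK z hz h)
  have h2 : 2 ≤ Module.finrank F S := by
    by_contra hlt
    have hle1 : S ≤ Submodule.span F {(i : ι → F)} := by
      refine (Submodule.eq_of_le_of_finrank_le ?_ ?_).symm.le
      · rw [hS]
        exact Submodule.span_mono (Set.singleton_subset_iff.2 hiK)
      · rw [finrank_span_singleton i.2.2]
        omega
    obtain ⟨c, rfl⟩ := Submodule.mem_span_singleton.1 (hle1 (hS ▸ Submodule.subset_span hbK))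
    rw [herm_smul_right hf, i.2.1.1, mul_zero] at hib
    exact hib rfl
  have htop : S = ⊤ := by
    refine top_of_translates hf hle h5 hirr hSnd h2 fun g hg => ?_
    have himg : ∀ b ∈ K, (g : Matrix ι ι F) *ᵥ b ∈ K ↔ (g : Matrix ι ι F) *ᵥ (i : ι → F) ∈ K := by
      intro b hb
      rw [hK] at hb
      induction hb with
      | refl => exact Iff.rfl
      | @tail y z h1 h2 ih =>
        have hy : (g : Matrix ι ι F) *ᵥ y ∈ C := hmove g hg y (hKC y (by rw [hK]; exact h1))
        have hz : (g : Matrix ι ι F) *ᵥ z ∈ C := hmove g hg z h2.1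
        have hyz : f ((g : Matrix ι ι F) *ᵥ y) ((g : Matrix ι ι F) *ᵥ z) ≠ 0 := by
          rw [mem_isoU.1 (hle hg)]; exact h2.2
        rw [← ih]
        exact ⟨fun h => hclosed _ h _ hy fun h' => hyz (herm_swap_zero hf h'), fun h => hclosed _ h _ hz hyz⟩
    by_cases hgi : (g : Matrix ι ι F) *ᵥ (i : ι → F) ∈ K
    · refine Or.inl fun w hw => ?_
      rw [hS] at hw ⊢
      induction hw using Submodule.span_induction with
      | mem z hz => exact Submodule.subset_span ((himg z hz).2 hgi)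
      | zero => rw [mulVec_zero]; exact zero_mem _
      | add a c _ _ ha hc => rw [mulVec_add]; exact add_mem ha hc
      | smul a c _ hc => rw [mulVec_smul]; exact Submodule.smul_mem _ a hc
    · refine Or.inr fun w hw => ?_
      rw [hS] at hw
      induction hw using Submodule.span_induction with
      | mem z hz => exact hperpK _ (hmove g hg z (hKC z hz)) fun h => hgi ((himg z hz).1 h)
      | zero => rw [mulVec_zero]; exact zero_mem _
      | add a c _ _ ha hc => rw [mulVec_add]; exact add_mem ha hc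
      | smul a c _ hc => rw [mulVec_smul]; exact Submodule.smul_mem _ a hc
  have hjC : (j : ι → F) ∈ C := by rw [hC]; exact j.2
  by_cases hjK : (j : ι → F) ∈ K
  · exact hKP _ hjC hjK
  · exact absurd (zero_of_perp_spanning hf (hS.symm.trans htop) fun z hz => hperpK _ hjC hjK z
      (by rw [hS]; exact Submodule.subset_span hz)) j.2.2

/-- an irreducible group with one full transvection group has all isotropic vectors as centres -/
theorem centres_top_of_irreducible_group (h5 : Fintype.card ι = 5) (hF : 4 < Fintype.card F)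
    (hirr : ∀ W : Submodule F (ι → F),
      (∀ x ∈ M, ∀ w ∈ W, (x : Matrix ι ι F) *ᵥ w ∈ W) → W = ⊥ ∨ W = ⊤)
    {u₀ : ι → F} (hu₀ : u₀ ≠ 0) (hc : u₀ ∈ centres hf M) : ∀ u, f u u = 0 → u ∈ centres hf M := by
  obtain ⟨hspan, hconn⟩ := centres_connected hf hle h5 hirr hu₀ hc
  have hodd : Odd (Fintype.card ι) := by rw [h5]; decide
  have hx : ∀ i : {u : ι → F // u ∈ centres hf M ∧ u ≠ 0}, (i : ι → F) ∈ centres hf M := fun i => i.2.1
  have hspan' : Submodule.span F
      (Set.range fun i : {u : ι → F // u ∈ centres hf M ∧ u ≠ 0} => (i : ι → F)) = ⊤ := by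
    rw [Subtype.range_coe_subtype]
    exact hspan
  obtain ⟨W, hW, hW3, hWC⟩ :=
    CfsgLib.RegUnip.SUOdd.u_three hf hle hodd _ hx hspan' hconn
  exact CfsgLib.RegUnip.SUOdd.u_centres_all hf hle _ hx hspan' hconn hW hWC hW3 (Or.inr hF)

omit hle in
/-- the form needed for Singer normalisers -/
theorem centres_top_of_irreducible (h5 : Fintype.card ι = 5) (hF : 4 < Fintype.card F) {M : Subgroup (GL ι F)}
    (hM : M ≤ isoU f ⊓ specialLinear ι F) {g : GL ι F} (hg : g ∈ M)
    (hirr : ∀ W : Submodule F (ι → F), (∀ w ∈ W, (g : Matrix ι ι F) *ᵥ w ∈ W) → W = ⊥ ∨ W = ⊤)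
    {u₀ : ι → F} (hu₀ : u₀ ≠ 0) (hc : u₀ ∈ centres hf M) :
    ∀ u, f u u = 0 → u ∈ centres hf M :=
  centres_top_of_irreducible_group hf (hM.trans inf_le_left) h5 hF (fun W hW => hirr W fun w hw => hW g hg w hw)
    hu₀ hc

end CfsgLib.Perm.Trans.Unit
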