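import Cfsg.Agent.Lib.Perm.Trans.UnitFive.SingerSylowCount
import Cfsg.Agent.Lib.Perm.Trans.UnitMax
import Cfsg.Agent.Lib.Perm.Trans.UnitSubfMax

/-!
# Large unipotent subgroups of five dimensional unitary groups contain a full transvection group

A subgroup of prime power order in the defining characteristic fixes an isotropic point in an invariant singular
line. Its three layers (line, anisotropic vector, skew hermitian matrices) feed the counting of `SingerSylowCount`.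
-/

set_option autoImplicit false
set_option linter.all false

namespace CfsgLib.Perm.Trans.Unit

open scoped Matrix
open Matrix Cfsg.Geo CfsgLib.Perm.Asch CfsgLib.Perm.Trans

variable {ι : Type} [Fintype ι] [DecidableEq ι] {F : Type*} [Field F] [Fintype F]

/-- a group of prime power order fixes a vector of an invariant subspace modulo an invariant subspace -/
theorem exists_fixed_modulo {p : ℕ} [Fact p.Prime] [CharP F p] {S : Subgroup (GL ι F)} (hS : IsPGroup p S)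
    (E A : Submodule F (ι → F)) (hE : ∀ g ∈ S, ∀ x ∈ E, (g : Matrix ι ι F) *ᵥ x ∈ E)
    (hA : ∀ g ∈ S, ∀ x ∈ A, (g : Matrix ι ι F) *ᵥ x ∈ A) (hne : ∃ x ∈ A, x ∉ E) :
    ∃ x ∈ A, x ∉ E ∧ ∀ g ∈ S, (g : Matrix ι ι F) *ᵥ x - x ∈ E := by
  let act : S → ((ι → F) ⧸ E) → ((ι → F) ⧸ E) := fun g =>
    Submodule.mapQ E E (Matrix.toLin' ((g : GL ι F) : Matrix ι ι F)) fun x hx => by
      rw [Submodule.mem_comap, Matrix.toLin'_apply]
      exact hE g g.2 x hx
  have hact : ∀ (g : S) (x : ι → F),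
      act g (Submodule.Quotient.mk x) = Submodule.Quotient.mk (((g : GL ι F) : Matrix ι ι F) *ᵥ x) := fun g x => by
    simp only [act, Submodule.mapQ_apply, Matrix.toLin'_apply]
  let X : Set ((ι → F) ⧸ E) := (A.map E.mkQ : Submodule F ((ι → F) ⧸ E))
  have hX : ∀ g : S, ∀ v ∈ X, act g v ∈ X := by
    rintro g v ⟨x, hx, rfl⟩
    exact ⟨_, hA g g.2 x hx, (hact g x).symm⟩
  letI : MulAction S (A.map E.mkQ) :=
    { smul := fun g v => ⟨act g v, hX g v v.2⟩
      one_smul := fun v => Subtype.ext (by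
        obtain ⟨v, x, -, rfl⟩ := v
        show act 1 (Submodule.Quotient.mk x) = Submodule.Quotient.mk x
        rw [hact, OneMemClass.coe_one, Units.val_one, one_mulVec])
      mul_smul := fun g h v => Subtype.ext (by
        obtain ⟨v, x, -, rfl⟩ := v
        show act (g * h) (Submodule.Quotient.mk x) = act g (act h (Submodule.Quotient.mk x))
        rw [hact, hact, hact, Subgroup.coe_mul, gl_mul_mulVec]) }
  obtain ⟨x, hx, hxE⟩ := hne
  have h0 : (⟨Submodule.Quotient.mk x, x, hx, rfl⟩ : A.map E.mkQ) ≠ 0 := fun h =>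
    hxE ((Submodule.Quotient.mk_eq_zero E).1 (congrArg Subtype.val h))
  have hchar : ∀ v : A.map E.mkQ, p • v = 0 := fun v => by
    rw [← Nat.cast_smul_eq_nsmul F, CharP.cast_eq_zero, zero_smul]
  have hdvd : p ∣ Nat.card (A.map E.mkQ) :=
    (addOrderOf_eq_prime (hchar _) h0) ▸ addOrderOf_dvd_natCard _
  obtain ⟨w, hw, hw0⟩ := IsPGroup.exists_fixed_point_of_prime_dvd_card_of_fixed_point (p := p) hS (A.map E.mkQ) hdvd
    (a := (0 : A.map E.mkQ)) fun g => Subtype.ext (show act g (Submodule.Quotient.mk 0) = Submodule.Quotient.mk 0 by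
      rw [hact, mulVec_zero])
  obtain ⟨w, y, hy, rfl⟩ := w
  refine ⟨y, hy, fun hyE => hw0 (Subtype.ext ((Submodule.Quotient.mk_eq_zero E).2 hyE).symm), fun g hg => ?_⟩
  have h1 := congrArg Subtype.val (hw ⟨g, hg⟩)
  change act ⟨g, hg⟩ (Submodule.Quotient.mk y) = Submodule.Quotient.mk y at h1
  rw [hact] at h1
  exact (Submodule.Quotient.eq E).1 h1

variable {σ : F ≃+* F} {f : (ι → F) → (ι → F) → F} (hf : IsUnitaryForm σ f)
include hf

/-- an isotropic vector fixed modulo a totally singular point -/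
theorem exists_iso_fixed_modulo {p : ℕ} [Fact p.Prime] [CharP F p] {S : Subgroup (GL ι F)} (hS : IsPGroup p S)
    (hSU : S ≤ isoU f) {e : ι → F} (hee : f e e = 0) (hfix : ∀ g ∈ S, (g : Matrix ι ι F) *ᵥ e = e)
    (hdim : 3 + Module.finrank F (Submodule.span F ({e} : Set (ι → F))) ≤ Fintype.card ι) :
    ∃ x, x ∉ Submodule.span F ({e} : Set (ι → F)) ∧ f x e = 0 ∧ f x x = 0 ∧
      ∀ g ∈ S, (g : Matrix ι ι F) *ᵥ x - x ∈ Submodule.span F ({e} : Set (ι → F)) := by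
  obtain ⟨E, hE⟩ : ∃ E, E = Submodule.span F ({e} : Set (ι → F)) := ⟨_, rfl⟩
  rw [← hE] at hdim ⊢
  have hEinv : ∀ g ∈ S, ∀ x ∈ E, (g : Matrix ι ι F) *ᵥ x ∈ E := fun g hg x hx => by
    rw [hE] at hx ⊢
    obtain ⟨c, rfl⟩ := Submodule.mem_span_singleton.1 hx
    rw [mulVec_smul, hfix g hg]
    exact Submodule.smul_mem _ _ (Submodule.mem_span_singleton_self e)
  have hAinv : ∀ g ∈ S, ∀ x ∈ perpOf hf e, (g : Matrix ι ι F) *ᵥ x ∈ perpOf hf e := fun g hg x hx => by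
    rw [mem_perpOf] at hx ⊢
    conv_lhs => rw [← hfix g hg]
    rw [mem_isoU.1 (hSU hg), hx]
  have h1 := finrank_perp hf e
  obtain ⟨a, ha, haE, hag⟩ := exists_fixed_modulo hS E (perpOf hf e) hEinv hAinv (by
    by_contra hcon
    push Not at hcon
    have := Submodule.finrank_mono (show perpOf hf e ≤ E from hcon)
    omega)
  by_cases haa : f a a = 0
  · exact ⟨a, haE, ha, haa, hag⟩
  have hA'inv : ∀ g ∈ S, ∀ x ∈ perpOf hf e ⊓ perpOf hf a, (g : Matrix ι ι F) *ᵥ x ∈ perpOf hf e ⊓ perpOf hf a := by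
    intro g hg x hx
    refine ⟨hAinv g hg x hx.1, ?_⟩
    have hga := hag g hg
    rw [hE] at hga
    obtain ⟨c, hc⟩ := Submodule.mem_span_singleton.1 hga
    have h2 := mem_isoU.1 (hSU hg) x a
    rw [show (g : Matrix ι ι F) *ᵥ a = a + c • e by rw [hc, add_sub_cancel], herm_add_right hf,
      herm_smul_right hf, (mem_perpOf hf).1 (hAinv g hg x hx.1), mul_zero, add_zero, (mem_perpOf hf).1 hx.2] at h2
    exact h2
  have h3 := finrank_inf_perp hf (perpOf hf e) a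
  obtain ⟨b, hb, hbE, hbg⟩ := exists_fixed_modulo hS E (perpOf hf e ⊓ perpOf hf a) hEinv hA'inv (by
    by_contra hcon
    push Not at hcon
    have := Submodule.finrank_mono (show perpOf hf e ⊓ perpOf hf a ≤ E from hcon)
    omega)
  by_cases hbb : f b b = 0
  · exact ⟨b, hbE, hb.1, hbb, hbg⟩
  obtain ⟨c, hc⟩ := exists_norm hf (d := -f a a / f b b) (by rw [map_div₀, map_neg, ← hf.herm, ← hf.herm])
  have hba : f b a = 0 := hb.2
  have hae : f a e = 0 := ha
  have hbe : f b e = 0 := hb.1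
  refine ⟨a + c • b, fun h => ?_, ?_, ?_, fun g hg => ?_⟩
  · rw [hE] at h
    obtain ⟨d, hd⟩ := Submodule.mem_span_singleton.1 h
    have h4 : f (a + c • b) a = f a a := by rw [hf.add_left, hf.smul_left, hba, mul_zero, add_zero]
    rw [← hd, hf.smul_left, herm_swap_zero hf hae, mul_zero] at h4
    exact haa h4.symm
  · rw [hf.add_left, hf.smul_left, hae, hbe, mul_zero, add_zero]
  · rw [hf.add_left, herm_add_right hf, herm_add_right hf, hf.smul_left, hf.smul_left, herm_smul_right hf,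
      herm_smul_right hf, hba, herm_swap_zero hf hba]
    rw [eq_div_iff hbb] at hc
    linear_combination hc
  · rw [mulVec_add, mulVec_smul, add_sub_add_comm, ← smul_sub]
    exact E.add_mem (hag g hg) (E.smul_mem c (hbg g hg))

omit hf in
/-- an adapted basis at a singular line -/
structure LineFrame (f : (ι → F) → (ι → F) → F) where
  e₁ : ι → F
  e₂ : ι → F
  h₁ : ι → F
  h₂ : ι → F
  m : ι → F
  e11 : f e₁ e₁ = 0
  e12 : f e₁ e₂ = 0
  e22 : f e₂ e₂ = 0
  h11 : f h₁ h₁ = 0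
  h12 : f h₁ h₂ = 0
  h22 : f h₂ h₂ = 0
  eh11 : f e₁ h₁ = 1
  eh12 : f e₁ h₂ = 0
  eh21 : f e₂ h₁ = 0
  eh22 : f e₂ h₂ = 1
  em1 : f e₁ m = 0
  em2 : f e₂ m = 0
  hm1 : f h₁ m = 0
  hm2 : f h₂ m = 0
  mm : f m m ≠ 0
  coord : ∀ x, x = f x h₁ • e₁ + f x h₂ • e₂ + f x e₁ • h₁ + f x e₂ • h₂ + (f x m / f m m) • m

/-- every singular line has an adapted basis -/
theorem exists_lineFrame (h5 : Fintype.card ι = 5) {e₁ e₂ : ι → F} (h10 : e₁ ≠ 0)
    (h2 : e₂ ∉ Submodule.span F ({e₁} : Set (ι → F))) (he11 : f e₁ e₁ = 0) (he21 : f e₂ e₁ = 0)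
    (he22 : f e₂ e₂ = 0) : ∃ D : LineFrame f, D.e₁ = e₁ ∧ D.e₂ = e₂ := by
  have he12 := herm_swap_zero hf he21
  have h20 : e₂ ≠ 0 := fun h => h2 (h ▸ zero_mem _)
  obtain ⟨z, -, hz1, hz2⟩ :=
    exists_values hf (isNondegenerateOn_top hf) (Submodule.mem_top) Submodule.mem_top h10 h2 1 0
  obtain ⟨h₁, hh₁, hh11, heh11, hhe11⟩ := exists_partner hf (X := perpOf hf e₂) (e := e₁) he12 he11 (y := z)
    ((mem_perpOf hf).2 hz2) (fun h => one_ne_zero (hz1.symm.trans (herm_swap_zero hf h)))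
  have hh12' : f h₁ e₂ = 0 := hh₁
  obtain ⟨z₀, -, hw1, hw2⟩ :=
    exists_values hf (isNondegenerateOn_top hf) (Submodule.mem_top) Submodule.mem_top h10 h2 0 1
  obtain ⟨h₂, hh₂, hh22, heh22, hhe22⟩ := exists_partner hf (X := perpOf hf e₁ ⊓ perpOf hf h₁) (e := e₂)
    ⟨he21, show f e₂ h₁ = 0 from herm_swap_zero hf hh12'⟩ he22 (y := z₀ - f z₀ h₁ • e₁)
    ⟨show f _ e₁ = 0 by rw [herm_sub_left hf, hf.smul_left, hw1, he11, mul_zero, sub_zero],
      show f _ h₁ = 0 by rw [herm_sub_left hf, hf.smul_left, heh11, mul_one, sub_self]⟩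
    (fun h => one_ne_zero (hw2.symm.trans (by
      have := herm_swap_zero hf h
      rwa [herm_sub_left hf, hf.smul_left, he12, mul_zero, sub_zero] at this)))
  have hh21' : f h₂ e₁ = 0 := hh₂.1
  have hhh21 : f h₂ h₁ = 0 := hh₂.2
  obtain ⟨P₁, hP₁⟩ : ∃ P, P = Submodule.span F ({e₁, h₁} : Set (ι → F)) := ⟨_, rfl⟩
  obtain ⟨P₂, hP₂⟩ : ∃ P, P = Submodule.span F ({e₂, h₂} : Set (ι → F)) := ⟨_, rfl⟩
  have hn1 : IsNondegenerateOn f P₁ := hP₁ ▸ isNondegenerateOn_pair hf he11 hh11 heh11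
  have hn2 : IsNondegenerateOn f P₂ := hP₂ ▸ isNondegenerateOn_pair hf he22 hh22 heh22
  have hd1 : Module.finrank F P₁ = 2 := by rw [hP₁]; exact finrank_pair hf he11 hh11 heh11
  have hd2 : Module.finrank F P₂ = 2 := by rw [hP₂]; exact finrank_pair hf he22 hh22 heh22
  have hle : P₂ ≤ perp hf P₁ := by
    rw [hP₂, Submodule.span_le]
    rintro x hx w hw
    rw [hP₁] at hw
    obtain ⟨s, t, rfl⟩ := Submodule.mem_span_pair.1 hw
    rw [herm_add_right hf, herm_smul_right hf, herm_smul_right hf]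
    rcases hx with rfl | rfl
    · rw [he21, herm_swap_zero hf hh12', mul_zero, mul_zero, add_zero]
    · rw [hh21', hhh21, mul_zero, mul_zero, add_zero]
  obtain ⟨hn, hsum⟩ := sub_perp hf (isNondegenerateOn_perp hf hn1) hn2 hle
  have hsum1 := finrank_add_perp hf hn1
  have hd : Module.finrank F ↥(perp hf P₁ ⊓ perp hf P₂) = 1 := by omega
  obtain ⟨m, hm, hmm⟩ := exists_anisotropic hf hn (fun h => by rw [h, finrank_bot] at hd; exact zero_ne_one hd)
  have hm0 : m ≠ 0 := fun h => hmm (by rw [h, herm_zero_left hf])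
  have mem1 : e₁ ∈ P₁ ∧ h₁ ∈ P₁ := by
    rw [hP₁]; exact ⟨Submodule.subset_span (by simp), Submodule.subset_span (by simp)⟩
  have mem2 : e₂ ∈ P₂ ∧ h₂ ∈ P₂ := by
    rw [hP₂]; exact ⟨Submodule.subset_span (by simp), Submodule.subset_span (by simp)⟩
  have k1 := herm_swap_zero hf (hm.1 e₁ mem1.1)
  have k2 := herm_swap_zero hf (hm.2 e₂ mem2.1)
  have k3 := herm_swap_zero hf (hm.1 h₁ mem1.2)
  have k4 := herm_swap_zero hf (hm.2 h₂ mem2.2)
  refine ⟨⟨e₁, e₂, h₁, h₂, m, he11, he12, he22, hh11, herm_swap_zero hf hhh21, hh22, heh11,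
    herm_swap_zero hf hh21', herm_swap_zero hf hh12', heh22, k1, k2, k3, k4, hmm, fun x => ?_⟩, rfl, rfl⟩
  obtain ⟨d, hd'⟩ : ∃ d, d = x - (f x h₁ • e₁ + f x h₂ • e₂ + f x e₁ • h₁ + f x e₂ • h₂ + (f x m / f m m) • m) :=
    ⟨_, rfl⟩
  suffices h0 : d = 0 by
    rw [hd', sub_eq_zero] at h0
    exact h0
  have hv : ∀ y, f d y = f x y - (f x h₁ * f e₁ y + f x h₂ * f e₂ y + f x e₁ * f h₁ y + f x e₂ * f h₂ y +
      f x m / f m m * f m y) := fun y => by
    rw [hd', herm_sub_left hf]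
    simp only [hf.add_left, hf.smul_left]
  have d1 : f d e₁ = 0 := by rw [hv, he11, he21, hhe11, hh21', hm.1 e₁ mem1.1]; ring
  have d2 : f d e₂ = 0 := by rw [hv, he12, he22, hh12', hhe22, hm.2 e₂ mem2.1]; ring
  have d3 : f d h₁ = 0 := by
    rw [hv, heh11, herm_swap_zero hf hh12', hh11, hhh21, hm.1 h₁ mem1.2]; ring
  have d4 : f d h₂ = 0 := by
    rw [hv, herm_swap_zero hf hh21', heh22, herm_swap_zero hf hhh21, hh22, hm.2 h₂ mem2.2]; ring
  have d5 : f d m = 0 := by rw [hv, k1, k2, k3, k4, div_mul_cancel₀ _ hmm]; ring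
  have hdW : d ∈ perp hf P₁ ⊓ perp hf P₂ := by
    constructor <;> intro w hw <;> [rw [hP₁] at hw; rw [hP₂] at hw] <;>
      obtain ⟨s, t, rfl⟩ := Submodule.mem_span_pair.1 hw <;>
      rw [herm_add_right hf, herm_smul_right hf, herm_smul_right hf] <;> simp [d1, d2, d3, d4]
  obtain ⟨c, hc⟩ := exists_smul_eq_of_finrank_eq_one (K := F) (V := ↥(perp hf P₁ ⊓ perp hf P₂)) hd
    (x := ⟨m, hm⟩) (fun h => hm0 (congrArg Subtype.val h)) ⟨d, hdW⟩
  have hc' : c • m = d := congrArg Subtype.val hc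
  rw [← hc', hf.smul_left, mul_eq_zero, or_iff_left hmm] at d5
  rw [← hc', d5, zero_smul]

/-- an element fixing the basis fixes everything -/
theorem LineFrame.ext (D : LineFrame f) {g g' : GL ι F}
    (h1 : (g : Matrix ι ι F) *ᵥ D.e₁ = (g' : Matrix ι ι F) *ᵥ D.e₁)
    (h2 : (g : Matrix ι ι F) *ᵥ D.e₂ = (g' : Matrix ι ι F) *ᵥ D.e₂)
    (h3 : (g : Matrix ι ι F) *ᵥ D.h₁ = (g' : Matrix ι ι F) *ᵥ D.h₁)
    (h4 : (g : Matrix ι ι F) *ᵥ D.h₂ = (g' : Matrix ι ι F) *ᵥ D.h₂)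
    (h5 : (g : Matrix ι ι F) *ᵥ D.m = (g' : Matrix ι ι F) *ᵥ D.m) : g = g' :=
  gl_ext_vec fun x => by
    rw [D.coord x]
    simp only [mulVec_add, mulVec_smul, h1, h2, h3, h4, h5]

/-- a `p`-subgroup of order at least `q^6` contains a full transvection group -/
theorem exists_centre_of_pgroup (h5 : Fintype.card ι = 5) {p q : ℕ} [Fact p.Prime] [CharP F p]
    (hF : Fintype.card F = q ^ 2) {S : Subgroup (GL ι F)} (hS : S ≤ isoU f) (hp : IsPGroup p S)
    (hcard : q ^ 6 ≤ Nat.card S) : ∃ u, u ≠ 0 ∧ u ∈ centres hf S := by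
  classical
  -- the flag
  obtain ⟨e₁, he10, -, he11, he1f⟩ := exists_iso_fixed_modulo hf hp hS (e := (0 : ι → F))
    (herm_zero_left hf 0) (fun g _ => mulVec_zero _) (by rw [Submodule.span_zero_singleton, finrank_bot, h5]; norm_num)
  have he1 : ∀ g ∈ S, (g : Matrix ι ι F) *ᵥ e₁ = e₁ := fun g hg => by
    have := he1f g hg
    simpa [sub_eq_zero] using this
  have he10' : e₁ ≠ 0 := fun h => he10 (by rw [h]; exact zero_mem _)
  obtain ⟨e₂, he2E, he21, he22, he2f⟩ := exists_iso_fixed_modulo hf hp hS he11 he1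
    (by rw [finrank_span_singleton he10', h5]; norm_num)
  obtain ⟨D, hD1, hD2⟩ := exists_lineFrame hf h5 he10' he2E he11 he21 he22
  subst hD1 hD2
  obtain ⟨μ, hμ⟩ : ∃ μ, μ = f D.m D.m := ⟨_, rfl⟩
  have hμσ : σ μ = μ := by rw [hμ, ← hf.herm]
  have hμ0 : μ ≠ 0 := hμ ▸ D.mm
  have hme1 := herm_swap_zero hf D.em1
  have hme2 := herm_swap_zero hf D.em2
  have hhe11 : f D.h₁ D.e₁ = 1 := by rw [hf.herm, D.eh11, map_one]
  have hhe22 : f D.h₂ D.e₂ = 1 := by rw [hf.herm, D.eh22, map_one]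
  have hhe12 := herm_swap_zero hf D.eh21
  have hhe21 := herm_swap_zero hf D.eh12
  have hmh1 := herm_swap_zero hf D.hm1
  have hmh2 := herm_swap_zero hf D.hm2
  have hhh21 := herm_swap_zero hf D.h12
  -- the action on the line
  have hb : ∀ g ∈ S, (g : Matrix ι ι F) *ᵥ D.e₂ = D.e₂ + f ((g : Matrix ι ι F) *ᵥ D.e₂) D.h₁ • D.e₁ := by
    intro g hg
    obtain ⟨c, hc⟩ := Submodule.mem_span_singleton.1 (he2f g hg)
    have h1 : (g : Matrix ι ι F) *ᵥ D.e₂ = D.e₂ + c • D.e₁ := by rw [hc, add_sub_cancel]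
    rw [h1, hf.add_left, hf.smul_left, D.eh21, D.eh11, zero_add, mul_one]
  obtain ⟨φ, hφ⟩ : ∃ φ : Additive S →+ F, ∀ g : S, φ (Additive.ofMul g) = f (((g : GL ι F) : Matrix ι ι F) *ᵥ D.e₂) D.h₁ := by
    refine ⟨AddMonoidHom.mk' (fun g => f ((((Additive.toMul g : S) : GL ι F) : Matrix ι ι F) *ᵥ D.e₂) D.h₁) ?_,
      fun g => rfl⟩
    intro a b
    show f _ _ = _
    conv_lhs => rw [toMul_add, Subgroup.coe_mul, gl_mul_mulVec, hb _ (Additive.toMul b).2, mulVec_add,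
      mulVec_smul, he1 _ (Additive.toMul a).2, hf.add_left, hf.smul_left, D.eh11, mul_one]
  -- the action on the anisotropic vector
  have hker2 : ∀ k : φ.ker, (((Additive.toMul (k : Additive S) : S) : GL ι F) : Matrix ι ι F) *ᵥ D.e₂ = D.e₂ := by
    intro k
    have h1 := AddMonoidHom.mem_ker.1 k.2
    rw [← ofMul_toMul (k : Additive S), hφ] at h1
    rw [hb _ (Additive.toMul (k : Additive S)).2, h1, zero_smul, add_zero]
  let el : φ.ker → GL ι F := fun k => ((Additive.toMul (k : Additive S) : S) : GL ι F)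
  have helS : ∀ k, el k ∈ S := fun k => (Additive.toMul (k : Additive S)).2
  have heladd : ∀ k k', el (k + k') = el k * el k' := fun k k' => rfl
  have hisoK : ∀ k x y, f ((el k : Matrix ι ι F) *ᵥ x) ((el k : Matrix ι ι F) *ᵥ y) = f x y :=
    fun k => mem_isoU.1 (hS (helS k))
  have hk1 : ∀ k, (el k : Matrix ι ι F) *ᵥ D.e₁ = D.e₁ := fun k => he1 _ (helS k)
  have hk2 : ∀ k, (el k : Matrix ι ι F) *ᵥ D.e₂ = D.e₂ := hker2
  have hfe : ∀ k x, f ((el k : Matrix ι ι F) *ᵥ x) D.e₁ = f x D.e₁ ∧ f ((el k : Matrix ι ι F) *ᵥ x) D.e₂ = f x D.e₂ :=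
    fun k x => ⟨by conv_lhs => rw [← hk1 k]
                   exact hisoK k _ _,
      by conv_lhs => rw [← hk2 k]
         exact hisoK k _ _⟩
  let a₁ : φ.ker → F := fun k => f ((el k : Matrix ι ι F) *ᵥ D.m) D.h₁
  let a₂ : φ.ker → F := fun k => f ((el k : Matrix ι ι F) *ᵥ D.m) D.h₂
  have hkm : ∀ k, (el k : Matrix ι ι F) *ᵥ D.m = a₁ k • D.e₁ + a₂ k • D.e₂ + D.m := by
    intro k
    obtain ⟨c, hc⟩ : ∃ c, c = f ((el k : Matrix ι ι F) *ᵥ D.m) D.m / f D.m D.m := ⟨_, rfl⟩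
    have h1 : (el k : Matrix ι ι F) *ᵥ D.m = a₁ k • D.e₁ + a₂ k • D.e₂ + c • D.m := by
      conv_lhs => rw [D.coord ((el k : Matrix ι ι F) *ᵥ D.m)]
      rw [(hfe k D.m).1, (hfe k D.m).2, hme1, hme2, hc, zero_smul, zero_smul, add_zero, add_zero]
    suffices hc1 : c = 1 by rwa [hc1, one_smul] at h1
    have hpow : ∀ n : ℕ, ∃ s t : F,
        ((el k ^ n : GL ι F) : Matrix ι ι F) *ᵥ D.m = s • D.e₁ + t • D.e₂ + c ^ n • D.m := by
      intro n
      induction n with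
      | zero => exact ⟨0, 0, by simp⟩
      | succ n ih =>
        obtain ⟨s, t, hst⟩ := ih
        refine ⟨s + c ^ n * a₁ k, t + c ^ n * a₂ k, ?_⟩
        rw [pow_succ', gl_mul_mulVec, hst, mulVec_add, mulVec_add, mulVec_smul, mulVec_smul, mulVec_smul, hk1, hk2,
          h1, smul_add, smul_add, smul_smul, smul_smul, smul_smul, pow_succ]
        module
    obtain ⟨j, hj⟩ := hp ⟨el k, helS k⟩
    have hj' : el k ^ p ^ j = 1 := congrArg Subtype.val hj
    obtain ⟨s, t, hst⟩ := hpow (p ^ j)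
    rw [hj', Units.val_one, one_mulVec] at hst
    have h2 := congrArg (fun x => f x D.m) hst
    simp only [hf.add_left, hf.smul_left, D.em1, D.em2, mul_zero, zero_add] at h2
    have h3 : c ^ p ^ j = 1 := mul_right_cancel₀ D.mm (by rw [one_mul]; exact h2.symm)
    have h4 : (c - 1) ^ p ^ j = 0 := by rw [sub_pow_char_pow, h3, one_pow, sub_self]
    exact sub_eq_zero.1 ((pow_eq_zero_iff (pow_ne_zero _ (Fact.out : p.Prime).ne_zero)).1 h4)
  obtain ⟨ψ, hψ⟩ : ∃ ψ : φ.ker →+ F × F, ∀ k, ψ k = (a₁ k, a₂ k) := by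
    refine ⟨AddMonoidHom.mk' (fun k => (a₁ k, a₂ k)) fun k k' => ?_, fun k => rfl⟩
    have h1 : (el (k + k') : Matrix ι ι F) *ᵥ D.m = (el k : Matrix ι ι F) *ᵥ ((el k' : Matrix ι ι F) *ᵥ D.m) := by
      rw [heladd, gl_mul_mulVec]
    simp only [a₁, a₂, Prod.mk_add_mk]
    rw [h1, hkm k', mulVec_add, mulVec_add, mulVec_smul, mulVec_smul, hk1, hk2]
    simp only [hf.add_left, hf.smul_left, D.eh11, D.eh12, D.eh21, D.eh22, hmh1, hmh2, mul_one, mul_zero, add_zero,
      zero_add]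
    exact Prod.ext (add_comm _ _) (add_comm _ _)
  -- the matrices
  let Ω : φ.ker → F × F × F := fun k => (f ((el k : Matrix ι ι F) *ᵥ D.h₁) D.h₁,
    f ((el k : Matrix ι ι F) *ᵥ D.h₁) D.h₂, f ((el k : Matrix ι ι F) *ᵥ D.h₂) D.h₂)
  let ω₂₁ : φ.ker → F := fun k => f ((el k : Matrix ι ι F) *ᵥ D.h₂) D.h₁
  have hkh₁ : ∀ k, (el k : Matrix ι ι F) *ᵥ D.h₁ =
      (Ω k).1 • D.e₁ + (Ω k).2.1 • D.e₂ + D.h₁ + (-σ (a₁ k) / μ) • D.m := by
    intro k
    have h1 : f ((el k : Matrix ι ι F) *ᵥ D.h₁) D.m = -σ (a₁ k) := by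
      have := hisoK k D.h₁ D.m
      rw [hkm k, herm_add_right hf, herm_add_right hf, herm_smul_right hf, herm_smul_right hf, (hfe k _).1,
        (hfe k _).2, hhe11, hhe12, D.hm1] at this
      linear_combination this
    conv_lhs => rw [D.coord ((el k : Matrix ι ι F) *ᵥ D.h₁)]
    rw [(hfe k _).1, (hfe k _).2, hhe11, hhe12, h1, one_smul, zero_smul, add_zero, ← hμ]
  have hkh₂ : ∀ k, (el k : Matrix ι ι F) *ᵥ D.h₂ =
      ω₂₁ k • D.e₁ + (Ω k).2.2 • D.e₂ + D.h₂ + (-σ (a₂ k) / μ) • D.m := by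
    intro k
    have h1 : f ((el k : Matrix ι ι F) *ᵥ D.h₂) D.m = -σ (a₂ k) := by
      have := hisoK k D.h₂ D.m
      rw [hkm k, herm_add_right hf, herm_add_right hf, herm_smul_right hf, herm_smul_right hf, (hfe k _).1,
        (hfe k _).2, hhe21, hhe22, D.hm2] at this
      linear_combination this
    conv_lhs => rw [D.coord ((el k : Matrix ι ι F) *ᵥ D.h₂)]
    rw [(hfe k _).1, (hfe k _).2, hhe21, hhe22, h1, one_smul, zero_smul, add_zero, ← hμ]
  have hΩadd : ∀ k k', Ω (k + k') = Ω k + Ω k' +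
      (-σ (a₁ k') * a₁ k / μ, -σ (a₁ k') * a₂ k / μ, -σ (a₂ k') * a₂ k / μ) := by
    intro k k'
    simp only [Ω, heladd, gl_mul_mulVec]
    rw [hkh₁ k', hkh₂ k']
    simp only [mulVec_add, mulVec_smul, hk1, hk2, hf.add_left, hf.smul_left, D.eh11, D.eh12, D.eh21, D.eh22,
      D.h11, D.h12, D.h22, hmh1, hmh2, mul_one, mul_zero, add_zero, zero_add, Ω, Prod.mk_add_mk, Prod.mk.injEq]
    simp only [a₁, a₂]
    refine ⟨?_, ?_, ?_⟩ <;> ring
  obtain ⟨K0, hK0⟩ : ∃ K0 : AddSubgroup φ.ker, K0 = ψ.ker := ⟨_, rfl⟩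
  have hK0a : ∀ k : K0, a₁ k = 0 ∧ a₂ k = 0 := fun k => by
    have h1 : ψ (k : φ.ker) = 0 := by
      rw [← AddMonoidHom.mem_ker, ← hK0]
      exact k.2
    rw [hψ] at h1
    exact ⟨congrArg Prod.fst h1, congrArg Prod.snd h1⟩
  have hskew : ∀ k : K0, σ (Ω k).1 = -(Ω k).1 ∧ σ (Ω k).2.2 = -(Ω k).2.2 ∧ ω₂₁ k = -σ (Ω k).2.1 := by
    intro k
    obtain ⟨h1, h2⟩ := hK0a k
    have e11 := hisoK k D.h₁ D.h₁
    have e22 := hisoK k D.h₂ D.h₂
    have e12 := hisoK k D.h₁ D.h₂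
    rw [hkh₁] at e11
    rw [hkh₂] at e22
    rw [hkh₁, hkh₂] at e12
    simp only [h1, h2, map_zero, neg_zero, zero_div, zero_smul, add_zero] at e11 e22 e12
    simp only [hf.add_left, herm_add_right hf, hf.smul_left, herm_smul_right hf, D.e11, D.e12, D.e22, D.h11,
      D.h12, D.h22, D.eh11, D.eh12, D.eh21, D.eh22, hhe11, hhe12, hhe21, hhe22, herm_swap_zero hf D.e12,
      mul_zero, mul_one, add_zero, zero_add] at e11 e22 e12
    refine ⟨by linear_combination e11, by linear_combination e22, ?_⟩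
    have e12' := congrArg σ e12
    rw [map_add, hf.involutive, map_zero] at e12'
    linear_combination e12'
  obtain ⟨η, hη⟩ : ∃ η : K0 →+ F × F × F, ∀ k : K0, η k = Ω k := by
    refine ⟨AddMonoidHom.mk' (fun k => Ω k) fun k k' => ?_, fun k => rfl⟩
    rw [AddSubgroup.coe_add, hΩadd, (hK0a k).1, (hK0a k).2]
    simp
  have hinj : ∀ k : K0, Ω k = 0 → k = 0 := by
    intro k hk
    have h21 : ω₂₁ k = 0 := by rw [(hskew k).2.2, hk]; simp
    have e : el k = 1 := LineFrame.ext hf D (by rw [hk1, Units.val_one, one_mulVec])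
      (by rw [hk2, Units.val_one, one_mulVec])
      (by rw [hkh₁, hk, (hK0a k).1, Units.val_one, one_mulVec]; simp)
      (by rw [hkh₂, h21, hk, (hK0a k).2, Units.val_one, one_mulVec]; simp)
      (by rw [hkm, (hK0a k).1, (hK0a k).2, Units.val_one, one_mulVec]; simp)
    exact Subtype.ext (Subtype.ext (Additive.toMul.injective (Subtype.ext e)))
  -- the three orders
  have hηker : Nat.card η.ker = 1 := by
    haveI : Subsingleton η.ker := ⟨fun a b => by
      have ha := hinj a (by rw [← hη]; exact AddMonoidHom.mem_ker.1 a.2)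
      have hb' := hinj b (by rw [← hη]; exact AddMonoidHom.mem_ker.1 b.2)
      exact Subtype.ext (ha.trans hb'.symm)⟩
    exact Nat.card_unique
  have hsplit : Nat.card S = Nat.card φ.range * Nat.card ψ.range * Nat.card η.range := by
    rw [← Nat.card_congr (Additive.ofMul (α := S)).symm, SingerSylow.card_split φ, SingerSylow.card_split ψ,
      ← hK0, SingerSylow.card_split η, hηker, mul_one, mul_assoc]
  -- the hypotheses of the counting
  have hmemη : ∀ k : φ.ker, a₁ k = 0 → a₂ k = 0 → Ω k ∈ η.range := fun k h1 h2 =>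
    ⟨⟨k, by rw [hK0, AddMonoidHom.mem_ker, hψ, h1, h2]; rfl⟩, hη _⟩
  obtain ⟨v, hv0, hvZ⟩ := SingerSylow.exists_full_line hf hμσ hμ0 φ.range ψ.range η.range
    (by rintro _ ⟨k, rfl⟩; rw [hη]; exact ⟨(hskew k).1, (hskew k).2.1⟩)
    (by
      rintro _ ⟨k, rfl⟩ _ ⟨k', rfl⟩
      rw [hψ, hψ]
      obtain ⟨x, hx⟩ : ∃ x : φ.ker, x = k + k' + -(k' + k) := ⟨_, rfl⟩
      have hxψ : ψ x = 0 := by rw [hx, map_add, map_add, map_neg, map_add]; abel
      rw [hψ] at hxψ
      have hx1 : a₁ x = 0 := congrArg Prod.fst hxψ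
      have hx2 : a₂ x = 0 := congrArg Prod.snd hxψ
      have e := hΩadd x (k' + k)
      rw [show x + (k' + k) = k + k' by rw [hx, neg_add_cancel_right], hΩadd k k', hΩadd k' k, hx1, hx2] at e
      have e' : Ω x = ((σ (a₁ k) * a₁ k' - σ (a₁ k') * a₁ k) / μ, (σ (a₁ k) * a₂ k' - σ (a₁ k') * a₂ k) / μ,
          (σ (a₂ k) * a₂ k' - σ (a₂ k') * a₂ k) / μ) := by
        simp only [Prod.ext_iff, Prod.fst_add, Prod.snd_add, mul_zero, zero_div, add_zero] at e ⊢
        refine ⟨?_, ?_, ?_⟩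
        · linear_combination -e.1
        · linear_combination -e.2.1
        · linear_combination -e.2.2
      rw [← e']
      exact hmemη x hx1 hx2)
    (by
      rintro _ ⟨g', rfl⟩ _ ⟨k, rfl⟩ hk0
      obtain ⟨g, rfl⟩ : ∃ g : S, Additive.ofMul g = g' := ⟨Additive.toMul g', ofMul_toMul g'⟩
      rw [hφ, hη] at *
      obtain ⟨b, hbd⟩ : ∃ b, b = f (((g : GL ι F) : Matrix ι ι F) *ᵥ D.e₂) D.h₁ := ⟨_, rfl⟩
      rw [← hbd]
      have hge1 := he1 g g.2
      have hge2 := hb g g.2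
      rw [← hbd] at hge2
      have hxk : Additive.ofMul g + ((k : φ.ker) : Additive S) + -Additive.ofMul g ∈ φ.ker := by
        rw [AddMonoidHom.mem_ker, map_add, map_add, map_neg, AddMonoidHom.mem_ker.1 (k : φ.ker).2]
        abel
      obtain ⟨x, hx⟩ : ∃ x : φ.ker, x = ⟨_, hxk⟩ := ⟨_, rfl⟩
      have helx : el x = (g : GL ι F) * el k * (g : GL ι F)⁻¹ := by rw [hx]; rfl
      have hfix : ∀ y, f y D.e₁ = 0 → f y D.e₂ = 0 → (el k : Matrix ι ι F) *ᵥ y = y := by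
        intro y h1 h2
        conv_lhs => rw [D.coord y]
        conv_rhs => rw [D.coord y]
        simp only [mulVec_add, mulVec_smul, hk1, hk2, hkm, (hK0a k).1, (hK0a k).2, h1, h2, zero_smul, zero_add,
          add_zero]
      have hadj : ∀ y z, f (((g : GL ι F)⁻¹ : GL ι F) *ᵥ y) z = f y ((g : GL ι F) *ᵥ z) := fun y z => by
        rw [← mem_isoU.1 (hS g.2), gl_mulVec_inv]
      have hxm : (el x : Matrix ι ι F) *ᵥ D.m = D.m := by
        rw [helx, gl_mul_mulVec, gl_mul_mulVec, hfix _ ?_ ?_, gl_mulVec_inv]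
        · rw [hadj, hge1, hme1]
        · rw [hadj, hge2, herm_add_right hf, herm_smul_right hf, hme2, hme1, mul_zero, add_zero]
      have hx1 : a₁ x = 0 := by simp only [a₁, hxm]; exact herm_swap_zero hf D.hm1
      have hx2 : a₂ x = 0 := by simp only [a₂, hxm]; exact herm_swap_zero hf D.hm2
      have hgi : ∀ y z, f (((g : GL ι F) : Matrix ι ι F) *ᵥ y) z = f y (((g : GL ι F)⁻¹ : GL ι F) *ᵥ z) :=
        fun y z => by rw [← mem_isoU.1 (hS g.2) y, gl_mulVec_inv]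
      have hkey : ∀ y, (el k : Matrix ι ι F) *ᵥ y = y + ((f y D.e₁ * (Ω k).1 + f y D.e₂ * ω₂₁ k) • D.e₁ +
          (f y D.e₁ * (Ω k).2.1 + f y D.e₂ * (Ω k).2.2) • D.e₂) := by
        intro y
        conv_lhs => rw [D.coord y]
        simp only [mulVec_add, mulVec_smul, hk1, hk2, hkm, hkh₁, hkh₂, (hK0a k).1, (hK0a k).2, map_zero, neg_zero,
          zero_div, zero_smul, zero_add, add_zero]
        conv_rhs => arg 1; rw [D.coord y]
        module
      have hform : ∀ y z, f ((el x : Matrix ι ι F) *ᵥ y) z = f y z +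
          ((f y (((g : GL ι F) : Matrix ι ι F) *ᵥ D.e₁) * (Ω k).1 +
              f y (((g : GL ι F) : Matrix ι ι F) *ᵥ D.e₂) * ω₂₁ k) * f (((g : GL ι F) : Matrix ι ι F) *ᵥ D.e₁) z +
          (f y (((g : GL ι F) : Matrix ι ι F) *ᵥ D.e₁) * (Ω k).2.1 +
              f y (((g : GL ι F) : Matrix ι ι F) *ᵥ D.e₂) * (Ω k).2.2) *
            f (((g : GL ι F) : Matrix ι ι F) *ᵥ D.e₂) z) := by
        intro y z
        rw [helx, gl_mul_mulVec, gl_mul_mulVec, hkey, mulVec_add, mulVec_add, mulVec_smul, mulVec_smul,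
          gl_mulVec_inv, hadj, hadj]
        simp only [hf.add_left, hf.smul_left]
      have hw := hskew k
      have e : Ω x = ((Ω k).1 + (b * (Ω k).2.1 - σ (b * (Ω k).2.1)), (Ω k).2.1, (Ω k).2.2) := by
        refine Prod.ext ?_ (Prod.ext ?_ ?_)
        all_goals
          simp only [Ω] at hk0 ⊢
          rw [hform, hge1, hge2]
          simp only [herm_add_right hf, herm_smul_right hf, hf.add_left, hf.smul_left, hhe11, hhe12, hhe21, hhe22,
            D.eh11, D.eh12, D.eh21, D.eh22, D.h11, D.h12, D.h22, Ω, hk0, hw.2.2, map_mul, mul_zero, zero_mul,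
            mul_one, add_zero, zero_add]
          try ring
      have hmem := η.range.sub_mem (hmemη x hx1 hx2) ⟨k, hη k⟩
      rw [e] at hmem
      convert hmem using 1
      refine Prod.ext ?_ (Prod.ext ?_ ?_) <;> simp)
    (by
      rw [hF, ← pow_mul]
      exact hsplit ▸ hcard)
  -- the transvection group
  obtain ⟨u, hu⟩ : ∃ u, u = v.1 • D.e₁ + v.2 • D.e₂ := ⟨_, rfl⟩
  have huu : f u u = 0 := by
    rw [hu]
    simp [hf.add_left, herm_add_right hf, hf.smul_left, herm_smul_right hf, D.e11, D.e12, D.e22,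
      herm_swap_zero hf D.e12]
  refine ⟨u, fun h0 => hv0 ?_, huu, fun c hc => ?_⟩
  · have h1 := congrArg (fun x => f x D.h₁) h0
    have h2 := congrArg (fun x => f x D.h₂) h0
    simp [hu, hf.add_left, hf.smul_left, D.eh11, D.eh12, D.eh21, D.eh22, herm_zero_left hf] at h1 h2
    exact Prod.ext h1 h2
  obtain ⟨k, hk⟩ := hvZ c hc
  rw [hη] at hk
  have h21 : ω₂₁ k = c * (σ v.2 * v.1) := by
    rw [(hskew k).2.2, hk]
    simp only [map_mul, hf.involutive, hc]
    ring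
  have hxu : ∀ x, f x u = σ v.1 * f x D.e₁ + σ v.2 * f x D.e₂ := fun x => by
    rw [hu, herm_add_right hf, herm_smul_right hf, herm_smul_right hf]
  refine ⟨utv_orth hf huu c, ?_⟩
  suffices he : tv u (c • hv hf u) (utv_orth hf huu c) = el k by rw [he]; exact helS k
  refine LineFrame.ext hf D ?_ ?_ ?_ ?_ ?_ <;> rw [tv_mulVec, smul_dotProduct, hv_dot, hxu]
  · simp [hk1, D.e11, D.e12]
  · simp [hk2, D.e22, herm_swap_zero hf D.e12]
  · rw [hkh₁, hk, (hK0a k).1, hu, hhe11, hhe12]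
    simp only [map_zero, neg_zero, zero_div, zero_smul, add_zero, mul_zero, mul_one, smul_eq_mul]
    module
  · rw [hkh₂, h21, hk, (hK0a k).2, hu, hhe21, hhe22]
    simp only [map_zero, neg_zero, zero_div, zero_smul, add_zero, mul_zero, mul_one, zero_add, smul_eq_mul]
    module
  · simp [hkm, (hK0a k).1, (hK0a k).2, hme1, hme2]

end CfsgLib.Perm.Trans.Unit
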