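import Cfsg.Agent.Lib.Perm.Trans.UnitDecomp.Arith
import Mathlib.Analysis.Fourier.FiniteAbelian.PontryaginDuality

/-!
# Counting in the unipotent radical at a singular line

The data of a unipotent group of the unitary group in five variables fixing a flag of a point in a singular line:
`B` the parameters on the line, `A` the parameters on the anisotropic vector, `Z` the skew hermitian matrices
(entries `(0,0)`, `(0,1)`, `(1,1)`). A large product of the orders forces a full line `c • v* v` in `Z`: otherwise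
either some nonsingular hermitian functional kills `Z`, and then `A` is isotropic for a nondegenerate pairing, or
all functionals killing `Z` are singular, and then they share an isotropic vector.
-/

set_option autoImplicit false
set_option linter.all false

namespace CfsgLib.Perm.Trans.Unit.SingerSylow

open Matrix Cfsg.Geo CfsgLib.Perm.Asch CfsgLib.Perm.Trans CfsgLib.Perm.Trans.Unit

/-- two sets orthogonal for a nondegenerate character pairing -/
theorem pair_card {X Y T : Type*} [AddCommGroup X] [AddCommGroup Y] [AddCommGroup T] [Finite X] [Finite Y]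
    (γ : AddChar T ℂ) (β : X → Y → T) (hl : ∀ x x' y, β (x + x') y = β x y + β x' y)
    (hr : ∀ x y y', β x (y + y') = β x y + β x y') (hne : ∀ x, x ≠ 0 → ∃ y, γ (β x y) ≠ 1)
    (U : AddSubgroup X) (W : AddSubgroup Y) (hUW : ∀ x ∈ U, ∀ y ∈ W, γ (β x y) = 1) :
    Nat.card U * Nat.card W ≤ Nat.card Y := by
  classical
  haveI := Fintype.ofFinite Y
  haveI : Fintype (Y ⧸ W) := Fintype.ofFinite _
  let φ : X → (Y →+ Additive ℂ) := fun x =>
    γ.toAddMonoidHom.comp (AddMonoidHom.mk' (β x) (hr x))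
  have hφ : ∀ (x : X) (y : Y), φ x y = Additive.ofMul (γ (β x y)) := fun x y => rfl
  have hker : ∀ u : U, W ≤ (φ u).ker := fun u y hy => by
    rw [AddMonoidHom.mem_ker, hφ, hUW u u.2 y hy]
    rfl
  let Φ : U → AddChar (Y ⧸ W) ℂ := fun u =>
    AddChar.toAddMonoidHomEquiv.symm (QuotientAddGroup.lift W (φ u) (hker u))
  have hΦ : ∀ (u : U) (y : Y), Φ u (QuotientAddGroup.mk y) = γ (β u y) := fun u y => rfl
  have hinj : Function.Injective Φ := by
    intro u u' h
    refine Subtype.ext ?_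
    by_contra hne'
    obtain ⟨y, hy⟩ := hne ((u : X) - u') (sub_ne_zero.2 hne')
    have h1 : γ (β u y) = γ (β u' y) := by rw [← hΦ, ← hΦ, h]
    have h2 : γ (β u y) = γ (β ((u : X) - u') y) * γ (β u' y) := by
      rw [← AddChar.map_add_eq_mul, ← hl, sub_add_cancel]
    rw [← h1] at h2
    have h3 : γ (β u y) ≠ 0 := (AddChar.val_isUnit γ _).ne_zero
    exact hy (mul_right_cancel₀ h3 (by rw [one_mul]; exact h2.symm))
  haveI : Finite U := inferInstance
  haveI : Fintype U := Fintype.ofFinite _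
  have h4 : Nat.card U ≤ Nat.card (Y ⧸ W) := by
    have := Fintype.card_le_of_injective Φ hinj
    rw [AddChar.card_eq] at this
    rwa [Nat.card_eq_fintype_card, Nat.card_eq_fintype_card]
  rw [AddSubgroup.card_eq_card_quotient_mul_card_addSubgroup W]
  exact Nat.mul_le_mul_right _ h4

/-- characters separate a subgroup from the other elements -/
theorem exists_char {P : Type*} [AddCommGroup P] [Finite P] (Z : AddSubgroup P) {x : P} (hx : x ∉ Z) :
    ∃ χ : AddChar P ℂ, (∀ z ∈ Z, χ z = 1) ∧ χ x ≠ 1 := by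
  have h0 : (QuotientAddGroup.mk x : P ⧸ Z) ≠ 0 := fun h => hx ((QuotientAddGroup.eq_zero_iff x).1 h)
  obtain ⟨ψ, hψ⟩ := AddChar.exists_apply_ne_zero.2 h0
  refine ⟨ψ.compAddMonoidHom (QuotientAddGroup.mk' Z), fun z hz => ?_, ?_⟩
  · rw [AddChar.compAddMonoidHom_apply, QuotientAddGroup.mk'_apply, (QuotientAddGroup.eq_zero_iff z).2 hz,
      AddChar.map_zero_eq_one]
  · rw [AddChar.compAddMonoidHom_apply]
    exact hψ

/-- the order of a finite group is that of the image times that of the kernel -/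
theorem card_split {A B : Type*} [AddGroup A] [AddGroup B] (φ : A →+ B) :
    Nat.card A = Nat.card φ.range * Nat.card φ.ker := by
  rw [AddSubgroup.card_eq_card_quotient_mul_card_addSubgroup φ.ker,
    Nat.card_congr (QuotientAddGroup.quotientKerEquivRange φ).toEquiv]

variable {ι : Type} [Fintype ι] [DecidableEq ι] {F : Type*} [Field F] [Fintype F]
variable {σ : F ≃+* F} {f : (ι → F) → (ι → F) → F}

/-- the skew elements -/
def skew (σ : F ≃+* F) : AddSubgroup F where
  carrier := {x | σ x = -x}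
  add_mem' {a b} ha hb := by
    show σ (a + b) = -(a + b)
    rw [map_add, show σ a = -a from ha, show σ b = -b from hb, neg_add]
  zero_mem' := by
    show σ 0 = -0
    rw [map_zero, neg_zero]
  neg_mem' {a} ha := by
    show σ (-a) = -(-a)
    rw [map_neg, show σ a = -a from ha]

omit [Fintype F] in
theorem mem_skew {x : F} : x ∈ skew σ ↔ σ x = -x := Iff.rfl

variable (hf : IsUnitaryForm σ f)
include hf

theorem sub_bar_mem (x : F) : x - σ x ∈ skew σ := by
  rw [mem_skew, map_sub, hf.involutive, neg_sub]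

theorem sub_bar_surj {t : F} (ht : σ t = -t) : ∃ x : F, x - σ x = t := by
  obtain ⟨δ, hδ, hδσ⟩ := exists_trace_zero hf
  obtain ⟨y, hy⟩ := exists_trace hf (d := t / δ) (by rw [map_div₀, ht, hδσ, neg_div_neg_eq])
  exact ⟨δ * y, by rw [map_mul, hδσ, neg_mul, sub_neg_eq_add, ← mul_add, hy, mul_div_cancel₀ _ hδ]⟩

theorem card_skew : Fintype.card F = Nat.card (skew σ) ^ 2 ∧ Nat.card (skew σ) = Nat.card {x : F // σ x = x} := by
  obtain ⟨q, -, hq, hqS, -⟩ := exists_sizes hf
  obtain ⟨δ, hδ, hδσ⟩ := exists_trace_zero hf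
  have e : {x : F // σ x = x} ≃ (skew σ : AddSubgroup F) :=
    { toFun := fun x => ⟨δ * x.1, by rw [mem_skew, map_mul, hδσ, x.2, neg_mul]⟩
      invFun := fun t => ⟨t.1 / δ, by rw [map_div₀, mem_skew.1 t.2, hδσ, neg_div_neg_eq]⟩
      left_inv := fun x => Subtype.ext (mul_div_cancel_left₀ _ hδ)
      right_inv := fun t => Subtype.ext (mul_div_cancel₀ _ hδ) }
  have h := (Nat.card_congr e).symm
  exact ⟨by rw [h, hqS, hq], h⟩

/-- the counting -/
theorem exists_full_line {μ : F} (hμ : σ μ = μ) (hμ0 : μ ≠ 0) (B : AddSubgroup F) (A : AddSubgroup (F × F))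
    (Z : AddSubgroup (F × F × F)) (hZ : ∀ ω ∈ Z, σ ω.1 = -ω.1 ∧ σ ω.2.2 = -ω.2.2)
    (hA : ∀ a ∈ A, ∀ a' ∈ A, ((σ a.1 * a'.1 - σ a'.1 * a.1) / μ, (σ a.1 * a'.2 - σ a'.1 * a.2) / μ,
      (σ a.2 * a'.2 - σ a'.2 * a.2) / μ) ∈ Z)
    (hB : ∀ b ∈ B, ∀ ω ∈ Z, ω.2.2 = 0 → (b * ω.2.1 - σ (b * ω.2.1), (0 : F), (0 : F)) ∈ Z)
    (hcard : Fintype.card F ^ 3 ≤ Nat.card B * Nat.card A * Nat.card Z) :
    ∃ v : F × F, v ≠ 0 ∧ ∀ c : F, σ c = -c →
      (c * (σ v.1 * v.1), c * (σ v.1 * v.2), c * (σ v.2 * v.2)) ∈ Z := by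
  classical
  obtain ⟨q, hq⟩ : ∃ q, q = Nat.card (skew σ) := ⟨_, rfl⟩
  obtain ⟨hF, hfix⟩ := card_skew hf
  rw [← hq] at hF hfix
  -- the whole space of skew matrices
  obtain ⟨Pz, hPz⟩ : ∃ Pz : AddSubgroup (F × F × F), Pz = (skew σ).prod ((⊤ : AddSubgroup F).prod (skew σ)) :=
    ⟨_, rfl⟩
  have hmemP : ∀ ω : F × F × F, ω ∈ Pz ↔ σ ω.1 = -ω.1 ∧ σ ω.2.2 = -ω.2.2 := fun ω => by
    rw [hPz, AddSubgroup.mem_prod, AddSubgroup.mem_prod]
    simp [mem_skew]
  have hZP : Z ≤ Pz := fun ω hω => (hmemP ω).2 (hZ ω hω)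
  have hPcard : Nat.card Pz = q * (q ^ 2 * q) := by
    rw [hPz, Nat.card_congr (AddSubgroup.prodEquiv _ _).toEquiv, Nat.card_prod,
      Nat.card_congr (AddSubgroup.prodEquiv _ _).toEquiv, Nat.card_prod, ← hq, AddSubgroup.card_top,
      Nat.card_eq_fintype_card, hF]
  by_cases hfull : ∀ c : F, σ c = -c → (c, (0 : F), (0 : F)) ∈ Z
  · refine ⟨(1, 0), by simp, fun c hc => ?_⟩
    simpa using hfull c hc
  push Not at hfull
  obtain ⟨c₀, hc₀, hc₀Z⟩ := hfull
  -- a character of the skew elements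
  obtain ⟨δ, hδ, hδσ⟩ := exists_trace_zero hf
  obtain ⟨γ, hγ⟩ : ∃ γ : AddChar (skew σ) ℂ, γ ⟨δ, hδσ⟩ ≠ 1 :=
    AddChar.exists_apply_ne_zero.2 (fun h => hδ (congrArg Subtype.val h))
  have hγsurj : ∀ k : F, σ k = k → k ≠ 0 → ∃ t : skew σ, ∀ h : k * (t : F) ∈ skew σ, γ ⟨k * t, h⟩ ≠ 1 := by
    intro k hk hk0
    refine ⟨⟨δ / k, by rw [mem_skew, map_div₀, hδσ, hk, neg_div]⟩, fun h => ?_⟩
    have e : (⟨k * (δ / k), h⟩ : skew σ) = ⟨δ, hδσ⟩ := Subtype.ext (mul_div_cancel₀ _ hk0)
    rw [e]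
    exact hγ
  -- hermitian functionals
  let L : {x : F // σ x = x} × {x : F // σ x = x} × F → Pz → skew σ := fun H ω =>
    ⟨(H.1 : F) * (ω : F × F × F).1 + (H.2.1 : F) * (ω : F × F × F).2.2 +
        (H.2.2 * (ω : F × F × F).2.1 - σ (H.2.2 * (ω : F × F × F).2.1)), by
      obtain ⟨h1, h2⟩ := (hmemP _).1 ω.2
      refine add_mem (add_mem ?_ ?_) (sub_bar_mem hf _) <;> rw [mem_skew, map_mul]
      · rw [h1, H.1.2, mul_neg]
      · rw [h2, H.2.1.2, mul_neg]⟩
  have hLadd : ∀ H ω ω', L H (ω + ω') = L H ω + L H ω' := fun H ω ω' => Subtype.ext (by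
    simp only [L, AddSubgroup.coe_add, Prod.fst_add, Prod.snd_add, mul_add, map_add]
    ring)
  let χ : {x : F // σ x = x} × {x : F // σ x = x} × F → AddChar Pz ℂ := fun H =>
    γ.compAddMonoidHom (AddMonoidHom.mk' (L H) (hLadd H))
  have hχ : ∀ H ω, χ H ω = γ (L H ω) := fun H ω => rfl
  have hχinj : Function.Injective χ := by
    rintro ⟨r, s, h⟩ ⟨r', s', h'⟩ he
    have key : ∀ ω, γ (L (r, s, h) ω - L (r', s', h') ω) = 1 := fun ω => by
      rw [AddChar.map_sub_eq_div, ← hχ, ← hχ, he, div_self]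
      exact (AddChar.val_isUnit _ _).ne_zero
    have hr : (r : F) = r' := by
      by_contra hne
      obtain ⟨t, ht⟩ := hγsurj ((r : F) - r') (by rw [map_sub, r.2, r'.2]) (sub_ne_zero.2 hne)
      have h1 : ((t : F), (0 : F), (0 : F)) ∈ Pz := (hmemP _).2 ⟨mem_skew.1 t.2, by simp⟩
      have hm : ((r : F) - r') * (t : F) ∈ skew σ := by
        rw [mem_skew, map_mul, map_sub, r.2, r'.2, mem_skew.1 t.2, mul_neg]
      refine ht hm ?_
      have h2 := key ⟨_, h1⟩
      convert h2 using 2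
      refine Subtype.ext ?_
      simp only [L, AddSubgroup.coe_sub, mul_zero, map_zero, sub_self, add_zero]
      ring
    have hs : (s : F) = s' := by
      by_contra hne
      obtain ⟨t, ht⟩ := hγsurj ((s : F) - s') (by rw [map_sub, s.2, s'.2]) (sub_ne_zero.2 hne)
      have h1 : ((0 : F), (0 : F), (t : F)) ∈ Pz := (hmemP _).2 ⟨by simp, mem_skew.1 t.2⟩
      have hm : ((s : F) - s') * (t : F) ∈ skew σ := by
        rw [mem_skew, map_mul, map_sub, s.2, s'.2, mem_skew.1 t.2, mul_neg]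
      refine ht hm ?_
      have h2 := key ⟨_, h1⟩
      convert h2 using 2
      refine Subtype.ext ?_
      simp only [L, AddSubgroup.coe_sub, mul_zero, map_zero, sub_self, add_zero, zero_add]
      ring
    have hh : h = h' := by
      by_contra hne
      obtain ⟨y, hy⟩ := sub_bar_surj hf hδσ
      have h1 : ((0 : F), y / (h - h'), (0 : F)) ∈ Pz := (hmemP _).2 ⟨by simp, by simp⟩
      refine hγ ?_
      have h2 := key ⟨_, h1⟩
      convert h2 using 2
      refine Subtype.ext ?_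
      simp only [L, AddSubgroup.coe_sub, mul_zero, zero_add]
      have hy' : (h - h') * (y / (h - h')) = y := mul_div_cancel₀ _ (sub_ne_zero.2 hne)
      have hy'' : σ h * σ (y / (h - h')) - σ h' * σ (y / (h - h')) = σ y := by
        rw [← sub_mul, ← map_sub, ← map_mul, hy']
      rw [map_mul, map_mul, ← hy]
      linear_combination (-1 : F) * hy' + hy''
    exact Prod.ext (Subtype.ext hr) (Prod.ext (Subtype.ext hs) hh)
  have hχsurj : Function.Surjective χ := by
    haveI : Fintype Pz := Fintype.ofFinite _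
    haveI : Fintype (AddChar Pz ℂ) := Fintype.ofFinite _
    refine ((Fintype.bijective_iff_injective_and_card χ).2 ⟨hχinj, ?_⟩).2
    have hAC : Nat.card (AddChar Pz ℂ) = Nat.card Pz := by
      rw [Nat.card_eq_fintype_card, Nat.card_eq_fintype_card]
      convert AddChar.card_eq (α := ↥Pz)
    rw [← Nat.card_eq_fintype_card, ← Nat.card_eq_fintype_card, hAC, hPcard, Nat.card_prod,
      Nat.card_prod, ← hfix, Nat.card_eq_fintype_card (α := F), hF]
    ring
  let ann : {x : F // σ x = x} × {x : F // σ x = x} × F → Prop := fun H => ∀ ω : Pz, (ω : F × F × F) ∈ Z → χ H ω = 1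
  have hsep : ∀ ω : Pz, (ω : F × F × F) ∉ Z → ∃ H, ann H ∧ χ H ω ≠ 1 := by
    intro ω hω
    obtain ⟨ψ, h1, h2⟩ := exists_char (Z.comap Pz.subtype) (x := ω) hω
    obtain ⟨H, rfl⟩ := hχsurj ψ
    exact ⟨H, fun ω' hω' => h1 ω' hω', h2⟩
  by_cases hdet : ∃ H, ann H ∧ (H.1 : F) * (H.2.1 : F) - H.2.2 * σ H.2.2 ≠ 0
  · -- `A` is isotropic, contradiction
    exfalso
    obtain ⟨⟨r, s, h⟩, hann, hd⟩ := hdet
    dsimp only at hd
    let P : F × F → F × F → F := fun a a' =>
      (r : F) * σ a.1 * a'.1 + (s : F) * σ a.2 * a'.2 + h * σ a.1 * a'.2 + σ h * σ a.2 * a'.1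
    have hmu : ∀ x : F, (x - σ x) / μ ∈ skew σ := fun x => by
      rw [mem_skew, map_div₀, map_sub, hf.involutive, hμ, ← neg_sub x, neg_div]
    let β : F × F → F × F → skew σ := fun a a' => ⟨(P a a' - σ (P a a')) / μ, hmu _⟩
    have hAA : Nat.card A * Nat.card A ≤ Nat.card (F × F) := by
      refine pair_card γ β (fun x x' y => Subtype.ext ?_) (fun x y y' => Subtype.ext ?_) ?_ A A ?_
      · simp only [β, P, AddSubgroup.coe_add, Prod.fst_add, Prod.snd_add, map_add, mul_add, add_mul]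
        field_simp
        ring
      · simp only [β, P, AddSubgroup.coe_add, Prod.fst_add, Prod.snd_add, map_add, mul_add, add_mul]
        field_simp
        ring
      · intro a ha
        obtain ⟨x, hx⟩ := sub_bar_surj hf (t := δ * μ) (by rw [map_mul, hδσ, hμ, neg_mul])
        obtain ⟨k₀, hk₀⟩ : ∃ k₀, k₀ = (r : F) * σ a.1 + σ h * σ a.2 := ⟨_, rfl⟩
        obtain ⟨k₁, hk₁⟩ : ∃ k₁, k₁ = (s : F) * σ a.2 + h * σ a.1 := ⟨_, rfl⟩
        obtain ⟨a', ha'⟩ : ∃ a' : F × F, k₀ * a'.1 + k₁ * a'.2 = x := by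
          by_cases h0 : k₀ = 0
          · by_cases h1 : k₁ = 0
            · exfalso
              apply ha
              have e1 : ((r : F) * s - h * σ h) * σ a.1 = 0 := by
                rw [hk₀] at h0; rw [hk₁] at h1
                linear_combination (s : F) * h0 - σ h * h1
              have e2 : ((r : F) * s - h * σ h) * σ a.2 = 0 := by
                rw [hk₀] at h0; rw [hk₁] at h1
                linear_combination (r : F) * h1 - h * h0
              exact Prod.ext (by simpa [hd] using e1) (by simpa [hd] using e2)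
            · exact ⟨(0, x / k₁), by rw [h0, zero_mul, zero_add, mul_div_cancel₀ _ h1]⟩
          · exact ⟨(x / k₀, 0), by rw [mul_zero, add_zero, mul_div_cancel₀ _ h0]⟩
        refine ⟨a', ?_⟩
        convert hγ using 3
        refine Subtype.ext ?_
        have hP : P a a' = x := by rw [← ha', hk₀, hk₁]; ring
        simp only [β]
        rw [hP, hx, mul_div_cancel_right₀ _ hμ0]
      · intro a ha a' ha'
        have hω := hA a ha a' ha'
        have h1 := hann ⟨_, hZP hω⟩ hω
        rw [hχ] at h1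
        convert h1 using 2
        refine Subtype.ext ?_
        simp only [β, P, L, map_add, map_mul, map_sub, map_div₀, hμ, hf.involutive, r.2, s.2]
        field_simp
        ring
    -- the pairing of `B` with the middle entries
    obtain ⟨Z0, hZ0⟩ : ∃ Z0 : AddSubgroup (skew σ),
        Z0 = (Z.comap ((AddMonoidHom.inl F (F × F)).comp (skew σ).subtype)) := ⟨_, rfl⟩
    have hmemZ0 : ∀ t : skew σ, t ∈ Z0 ↔ ((t : F), (0 : F), (0 : F)) ∈ Z := fun t => by
      rw [hZ0]; rfl
    obtain ⟨γ', hγ'Z, hγ'c⟩ := exists_char Z0 (x := ⟨c₀, hc₀⟩) (fun h => hc₀Z ((hmemZ0 _).1 h))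
    obtain ⟨W, hW⟩ : ∃ W : AddSubgroup F, ∀ z, z ∈ W ↔ ∃ α, (α, z, (0 : F)) ∈ Z := by
      refine ⟨
        { carrier := {z | ∃ α, (α, z, (0 : F)) ∈ Z}
          add_mem' := ?_
          zero_mem' := ⟨0, Z.zero_mem⟩
          neg_mem' := ?_ }, fun z => Iff.rfl⟩
      · rintro z z' ⟨α, hα⟩ ⟨α', hα'⟩
        exact ⟨α + α', by simpa using Z.add_mem hα hα'⟩
      · rintro z ⟨α, hα⟩
        exact ⟨-α, by simpa using Z.neg_mem hα⟩
    have hBW : Nat.card B * Nat.card W ≤ Nat.card F := by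
      refine pair_card γ' (fun b z => ⟨b * z - σ (b * z), sub_bar_mem hf _⟩) (fun x x' y => Subtype.ext ?_)
        (fun x y y' => Subtype.ext ?_) ?_ B W ?_
      · simp only [AddSubgroup.coe_add, add_mul, map_add]; ring
      · simp only [AddSubgroup.coe_add, mul_add, map_add]; ring
      · intro b hb
        obtain ⟨x, hx⟩ := sub_bar_surj hf hc₀
        refine ⟨x / b, ?_⟩
        convert hγ'c using 3
        refine Subtype.ext ?_
        simp only [mul_div_cancel₀ _ hb, hx]
      · intro b hb z hz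
        obtain ⟨α, hα⟩ := (hW z).1 hz
        exact hγ'Z _ ((hmemZ0 _).2 (hB b hb _ hα rfl))
    -- the order of `Z`
    let πδ : Z →+ skew σ := AddMonoidHom.mk' (fun ω => ⟨(ω : F × F × F).2.2, (hZ _ ω.2).2⟩)
      (fun a b => Subtype.ext rfl)
    let πz : πδ.ker →+ F := AddMonoidHom.mk' (fun ω => ((ω : Z) : F × F × F).2.1) (fun a b => rfl)
    have hsplit1 := card_split πδ
    have hsplit2 := card_split πz
    have hR : Nat.card πδ.range ≤ q := hq ▸ Nat.card_le_card_of_injective _ Subtype.val_injective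
    have hkz : ∀ ω : πδ.ker, ((ω : Z) : F × F × F).2.2 = 0 := fun ω =>
      congrArg Subtype.val (AddMonoidHom.mem_ker.1 ω.2)
    have hZ' : Nat.card πz.range ≤ Nat.card W := by
      refine Nat.card_le_card_of_injective (fun z => ⟨(z : F), ?_⟩) fun a b h => ?_
      · obtain ⟨ω, hω⟩ := z.2
        refine (hW _).2 ⟨((ω : Z) : F × F × F).1, ?_⟩
        have : ((ω : Z) : F × F × F) = (((ω : Z) : F × F × F).1, (z : F), (0 : F)) :=
          Prod.ext rfl (Prod.ext hω (hkz ω))
        exact this ▸ (ω : Z).2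
      · exact Subtype.ext (congrArg (fun x : W => (x : F)) h)
    have hK0 : Nat.card πz.ker < q := by
      rw [hq]
      let j : πz.ker → skew σ := fun ω => ⟨(((ω : πδ.ker) : Z) : F × F × F).1, (hZ _ ((ω : πδ.ker) : Z).2).1⟩
      have hj : Function.Injective j := fun a b h => by
        refine Subtype.ext (Subtype.ext (Subtype.ext (Prod.ext (congrArg Subtype.val h) (Prod.ext ?_ ?_))))
        · exact ((AddMonoidHom.mem_ker.1 a.2 : _ = (0 : F))).trans (AddMonoidHom.mem_ker.1 b.2).symm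
        · exact (hkz _).trans (hkz _).symm
      haveI : Fintype πz.ker := Fintype.ofFinite _
      haveI : Fintype (skew σ) := Fintype.ofFinite _
      rw [Nat.card_eq_fintype_card, Nat.card_eq_fintype_card]
      refine Fintype.card_lt_of_injective_of_notMem j hj (b := ⟨c₀, hc₀⟩) ?_
      rintro ⟨ω, hω⟩
      refine hc₀Z ?_
      have e : (((ω : πδ.ker) : Z) : F × F × F) = (c₀, (0 : F), (0 : F)) :=
        Prod.ext (congrArg Subtype.val hω) (Prod.ext (AddMonoidHom.mem_ker.1 ω.2) (hkz _))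
      exact e ▸ ((ω : πδ.ker) : Z).2
    have hAq : Nat.card A ≤ q ^ 2 := by
      rw [Nat.card_prod, Nat.card_eq_fintype_card (α := F), hF] at hAA
      exact Nat.mul_self_le_mul_self_iff.1 (by linarith [hAA])
    have hBW' : Nat.card B * Nat.card πz.range ≤ q ^ 2 := by
      refine (Nat.mul_le_mul_left _ hZ').trans ?_
      rwa [Nat.card_eq_fintype_card (α := F), hF] at hBW
    have hlt : Nat.card B * Nat.card A * Nat.card Z < q ^ 2 * q ^ 2 * q * q := by
      rw [hsplit1, hsplit2]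
      have hq0 : 0 < q := hq ▸ Nat.card_pos
      calc Nat.card B * Nat.card A * (Nat.card πδ.range * (Nat.card πz.range * Nat.card πz.ker))
          = (Nat.card B * Nat.card πz.range) * Nat.card A * Nat.card πδ.range * Nat.card πz.ker := by ring
        _ ≤ q ^ 2 * q ^ 2 * q * Nat.card πz.ker :=
          Nat.mul_le_mul_right _ (Nat.mul_le_mul (Nat.mul_le_mul hBW' hAq) hR)
        _ < q ^ 2 * q ^ 2 * q * q := Nat.mul_lt_mul_of_pos_left hK0 (by positivity)
    rw [hF] at hcard
    linarith [show (q ^ 2) ^ 3 = q ^ 2 * q ^ 2 * q * q by ring]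
  -- all functionals killing `Z` are singular
  push Not at hdet
  obtain ⟨⟨r, s, h⟩, hann, hr⟩ := hsep ⟨(c₀, 0, 0), (hmemP _).2 ⟨hc₀, by simp⟩⟩ hc₀Z
  have hr0 : (r : F) ≠ 0 := fun h0 => hr (by
    rw [hχ, ← AddChar.map_zero_eq_one γ]
    congr 1
    refine Subtype.ext ?_
    simp [L, h0])
  have hd := hdet (r, s, h) hann
  dsimp only at hd
  refine ⟨(-h, (r : F)), by simp [hr0], fun c hc => ?_⟩
  have hmem : (c * (σ (-h) * -h), c * (σ (-h) * (r : F)), c * (σ (r : F) * (r : F))) ∈ Pz := by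
    refine (hmemP _).2 ⟨?_, ?_⟩ <;> simp only [map_mul, map_neg, hf.involutive, hc, r.2] <;> ring
  by_contra hnot
  obtain ⟨⟨r', s', h'⟩, hann', hne⟩ := hsep ⟨_, hmem⟩ hnot
  have hd' := hdet (r', s', h') hann'
  have hann'' : ann (⟨(r : F) + r', by rw [map_add, r.2, r'.2]⟩, ⟨(s : F) + s', by rw [map_add, s.2, s'.2]⟩, h + h') := by
    intro ω hω
    have e1 := hann ω hω
    have e2 := hann' ω hω
    rw [hχ] at e1 e2 ⊢
    rw [show L (⟨(r : F) + r', by rw [map_add, r.2, r'.2]⟩, ⟨(s : F) + s', by rw [map_add, s.2, s'.2]⟩, h + h') ω =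
      L (r, s, h) ω + L (r', s', h') ω from Subtype.ext (by
        simp only [L, AddSubgroup.coe_add, add_mul, map_add]; ring), AddChar.map_add_eq_mul, e1, e2, one_mul]
  have hdd := hdet _ hann''
  dsimp only at hd' hdd
  refine hne ?_
  rw [hχ, ← AddChar.map_zero_eq_one γ]
  congr 1
  refine Subtype.ext ?_
  simp only [L, AddSubgroup.coe_zero, map_mul, map_neg, hf.involutive, hc, r.2]
  rw [map_add] at hdd
  linear_combination (c * (r : F)) * hdd - (c * (r : F)) * hd' + (-(c * (r : F)) - c * (r' : F)) * hd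

end CfsgLib.Perm.Trans.Unit.SingerSylow
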